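import Groth.Agent.Lib.TateFin22.Range2
import Groth.Agent.Lib.TateSub22.Graph

/-!
# The graph argument with sums of images
-/

universe u

open CategoryTheory Limits MonoidalCategory CartesianMonoidalCategory AlgebraicGeometry
open scoped MonObj GrpObj TensorProduct

set_option linter.style.haveILetI false
set_option linter.unusedSectionVars false
set_option maxHeartbeats 1000000
set_option synthInstance.maxHeartbeats 400000
set_option backward.isDefEq.respectTransparency false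

noncomputable section

namespace Groth.Agent.TateFin22

open Groth.Agent.TateSub22

variable {k : Type u} [Field k] (Ω : Type u) [Field Ω] [Algebra k Ω] (l : ℕ) [Fact l.Prime] [IsAlgClosure k Ω]
  {X : Over (Spec (CommRingCat.of k))}
  [GrpObj X] [IsCommMonObj X] [IsProper X.hom] [GeometricallyIntegral X.hom]

/-- Tate's proposition 2: an equivariant endomorphism commutes with the commutant of the endomorphisms. -/
theorem comm_of_equivariant (hl : (l : k) ≠ 0)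
    (hFin : FinHyp l (X ⊗ X))
    [IsProper (X ⊗ X).hom] [GeometricallyIntegral (X ⊗ X).hom]
    (ρ : (Ω ≃ₐ[k] Ω) → Module.End ℤ_[l] (AbDual.TateMod X l (SGA7.pt (K := k) Ω)))
    (hρ : ∀ τ z n, co Ω l n (ρ τ z) = SGA7.galAct τ (co Ω l n z))
    (ψ : Module.End ℤ_[l] (AbDual.TateMod X l (SGA7.pt (K := k) Ω))) (hψ : ∀ τ z, ψ (ρ τ z) = ρ τ (ψ z))
    (c : Module.End ℚ_[l] (ℚ_[l] ⊗[ℤ_[l]] AbDual.TateMod X l (SGA7.pt (K := k) Ω)))
    (hc : ∀ (f : X ⟶ X) (_ : IsMonHom f), c * (AbDual.tateMapₗ (l := l) (T := SGA7.pt (K := k) Ω) f).baseChange ℚ_[l] =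
      (AbDual.tateMapₗ (l := l) (T := SGA7.pt (K := k) Ω) f).baseChange ℚ_[l] * c) :
    ψ.baseChange ℚ_[l] * c = c * ψ.baseChange ℚ_[l] := by
  classical
  haveI : IsAlgClosed Ω := IsAlgClosure.isAlgClosed k
  haveI : Module.Free ℤ_[l] (AbDual.TateMod (X ⊗ X) l (SGA7.pt (K := k) Ω)) := TateTors22.free_tateMod (K := Ω) l hl
  haveI : Module.Finite ℤ_[l] (AbDual.TateMod (X ⊗ X) l (SGA7.pt (K := k) Ω)) := TateTors22.finite_tateMod (K := Ω) l hl
  let ι₁ : X ⟶ X ⊗ X := lift (𝟙 X) 1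
  let ι₂ : X ⟶ X ⊗ X := lift 1 (𝟙 X)
  haveI : IsMonHom ι₁ := by show IsMonHom (lift (𝟙 X) (1 : X ⟶ X)); rw [Hom.one_def]; infer_instance
  haveI : IsMonHom ι₂ := by show IsMonHom (lift (1 : X ⟶ X) (𝟙 X)); rw [Hom.one_def]; infer_instance
  let T₁ := AbDual.tateMapₗ (l := l) (T := SGA7.pt (K := k) Ω) (fst X X)
  let T₂ := AbDual.tateMapₗ (l := l) (T := SGA7.pt (K := k) Ω) (snd X X)
  let J₁ := AbDual.tateMapₗ (l := l) (T := SGA7.pt (K := k) Ω) ι₁
  let J₂ := AbDual.tateMapₗ (l := l) (T := SGA7.pt (K := k) Ω) ι₂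
  have h11 : ∀ x, T₁ (J₁ x) = x := fun x => by rw [map_comp']; exact map_id' Ω l (lift_fst _ _) x
  have h21 : ∀ x, T₂ (J₁ x) = 0 := fun x => by rw [map_comp']; exact map_one' Ω l (lift_snd _ _) x
  have h12 : ∀ x, T₁ (J₂ x) = 0 := fun x => by rw [map_comp']; exact map_one' Ω l (lift_fst _ _) x
  have h22 : ∀ x, T₂ (J₂ x) = x := fun x => by rw [map_comp']; exact map_id' Ω l (lift_snd _ _) x
  have hdec : ∀ z, z = J₁ (T₁ z) + J₂ (T₂ z) := fun z => tate_ext Ω l fun n => by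
    show co Ω l n z = (co Ω l n z ≫ fst X X) ≫ ι₁ * (co Ω l n z ≫ snd X X) ≫ ι₂
    rw [Category.assoc, Category.assoc, ← MonObj.comp_mul]
    conv_lhs => rw [← Category.comp_id (co Ω l n z)]
    congr 1
    apply CartesianMonoidalCategory.hom_ext <;>
      simp [ι₁, ι₂, MonObj.mul_comp, Category.assoc]
  let S := LinearMap.ker (ψ ∘ₗ T₁ - T₂)
  have hSmem : ∀ z, z ∈ S ↔ ψ (T₁ z) = T₂ z := fun z => by
    simp only [S, LinearMap.mem_ker, LinearMap.sub_apply, LinearMap.comp_apply, sub_eq_zero]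
  obtain ⟨g, hg, hgS, N, hgw⟩ := exists_range Ω l hl hFin S (fun τ z hz n => by
    refine ⟨J₁ (ρ τ (T₁ z)) + J₂ (ρ τ (T₂ z)), ?_, ?_⟩
    · rw [hSmem, map_add, h11, h12, add_zero, map_add, h21, h22, zero_add, hψ, (hSmem z).1 hz]
    · show (co Ω l n (ρ τ (T₁ z)) ≫ ι₁) * (co Ω l n (ρ τ (T₂ z)) ≫ ι₂) = _
      rw [hρ, hρ]
      apply CartesianMonoidalCategory.hom_ext
      · rw [MonObj.mul_comp, Category.assoc, Category.assoc, lift_fst, lift_fst, MonObj.comp_one, Category.comp_id,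
          _root_.mul_one]
        exact (Category.assoc _ _ _).symm
      · rw [MonObj.mul_comp, Category.assoc, Category.assoc, lift_snd, lift_snd, MonObj.comp_one, Category.comp_id,
          _root_.one_mul]
        exact (Category.assoc _ _ _).symm)
  have hblock : ∀ (r : R8) (f : X ⟶ X ⊗ X) (p : X ⊗ X ⟶ X) (_ : IsMonHom f) (_ : IsMonHom p),
      c * (AbDual.tateMapₗ (l := l) (T := SGA7.pt (K := k) Ω) p ∘ₗ g r ∘ₗ
          AbDual.tateMapₗ (l := l) (T := SGA7.pt (K := k) Ω) f).baseChange ℚ_[l] =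
        (AbDual.tateMapₗ (l := l) (T := SGA7.pt (K := k) Ω) p ∘ₗ g r ∘ₗ
          AbDual.tateMapₗ (l := l) (T := SGA7.pt (K := k) Ω) f).baseChange ℚ_[l] * c := by
    intro r f p hf hp
    have hgr := hg r
    clear hgS hgw hg
    revert hgr
    generalize g r = gr
    intro hgr
    induction hgr using Submodule.span_induction with
    | mem x hx =>
      obtain ⟨q, hq, rfl⟩ := hx
      rw [show AbDual.tateMapₗ (l := l) (T := SGA7.pt (K := k) Ω) p ∘ₗ AbDual.tateMapₗ (l := l) (T := SGA7.pt (K := k) Ω) q ∘ₗ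
          AbDual.tateMapₗ (l := l) (T := SGA7.pt (K := k) Ω) f =
        AbDual.tateMapₗ (l := l) (T := SGA7.pt (K := k) Ω) ((f ≫ q) ≫ p) from LinearMap.ext fun z => by
          refine tate_ext Ω l fun n => ?_
          rw [LinearMap.comp_apply, LinearMap.comp_apply, co_map, co_map, co_map, co_map]
          simp only [Category.assoc]]
      exact hc _ inferInstance
    | zero => rw [LinearMap.zero_comp, LinearMap.comp_zero, LinearMap.baseChange_zero, mul_zero, zero_mul]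
    | add x y _ _ hx hy =>
      rw [LinearMap.add_comp, LinearMap.comp_add, LinearMap.baseChange_add, mul_add, add_mul, hx, hy]
    | smul r x _ hx =>
      rw [LinearMap.smul_comp, LinearMap.comp_smul, LinearMap.baseChange_smul, mul_smul_comm, smul_mul_assoc, hx]
  have key : ∀ (r : R8) (f : X ⟶ X ⊗ X) (_ : IsMonHom f) (x : AbDual.TateMod X l (SGA7.pt (K := k) Ω)),
      (ψ.baseChange ℚ_[l] * c) ((1 : ℚ_[l]) ⊗ₜ[ℤ_[l]] T₁ (g r (AbDual.tateMapₗ (l := l) (T := SGA7.pt (K := k) Ω) f x))) =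
        (c * ψ.baseChange ℚ_[l]) ((1 : ℚ_[l]) ⊗ₜ[ℤ_[l]] T₁ (g r (AbDual.tateMapₗ (l := l) (T := SGA7.pt (K := k) Ω) f x))) := by
    intro r f hf x
    let A := T₁ ∘ₗ g r ∘ₗ AbDual.tateMapₗ (l := l) (T := SGA7.pt (K := k) Ω) f
    let C := T₂ ∘ₗ g r ∘ₗ AbDual.tateMapₗ (l := l) (T := SGA7.pt (K := k) Ω) f
    have hA : c * A.baseChange ℚ_[l] = A.baseChange ℚ_[l] * c := hblock r f (fst X X) hf inferInstance
    have hC : c * C.baseChange ℚ_[l] = C.baseChange ℚ_[l] * c := hblock r f (snd X X) hf inferInstance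
    have hAC : ψ.baseChange ℚ_[l] * A.baseChange ℚ_[l] = C.baseChange ℚ_[l] := by
      rw [Module.End.mul_eq_comp, ← LinearMap.baseChange_comp]
      exact congrArg _ (LinearMap.ext fun z => (hSmem _).1 (hgS r _))
    show (ψ.baseChange ℚ_[l] * c) ((A.baseChange ℚ_[l]) ((1 : ℚ_[l]) ⊗ₜ[ℤ_[l]] x)) =
      (c * ψ.baseChange ℚ_[l]) ((A.baseChange ℚ_[l]) ((1 : ℚ_[l]) ⊗ₜ[ℤ_[l]] x))
    rw [← Module.End.mul_apply, ← Module.End.mul_apply, _root_.mul_assoc, hA, ← _root_.mul_assoc, hAC,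
      _root_.mul_assoc, hAC, hC]
  refine LinearMap.ext fun v => ?_
  induction v using TensorProduct.induction_on with
  | zero => rw [map_zero, map_zero]
  | add x y hx hy => rw [map_add, map_add, hx, hy]
  | tmul q x =>
    obtain ⟨z, hz⟩ := hgw (J₁ x + J₂ (ψ x)) (by rw [hSmem, map_add, h11, h12, add_zero, map_add, h21, h22, zero_add])
    have hx : (l : ℤ_[l]) ^ N • x = ∑ r, (T₁ (g r (J₁ (T₁ (z r)))) + T₁ (g r (J₂ (T₂ (z r))))) := by
      simp only [← map_add, ← hdec]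
      rw [← map_sum, hz, map_smul, map_add, h11, h12, add_zero]
    have hl0 : ((l : ℚ_[l]) ^ N : ℚ_[l]) ≠ 0 := pow_ne_zero _ (Nat.cast_ne_zero.2 (Fact.out : l.Prime).ne_zero)
    have h1 : (q ⊗ₜ[ℤ_[l]] x : ℚ_[l] ⊗[ℤ_[l]] AbDual.TateMod X l (SGA7.pt (K := k) Ω)) =
        (q * ((l : ℚ_[l]) ^ N)⁻¹) • ((1 : ℚ_[l]) ⊗ₜ[ℤ_[l]] ((l : ℤ_[l]) ^ N • x)) := by
      rw [TensorProduct.tmul_smul, ← algebraMap_smul ℚ_[l] ((l : ℤ_[l]) ^ N), _root_.map_pow, map_natCast, smul_smul,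
        _root_.mul_assoc, inv_mul_cancel₀ hl0, _root_.mul_one, TensorProduct.smul_tmul', smul_eq_mul, _root_.mul_one]
    rw [h1, map_smul, map_smul, hx, TensorProduct.tmul_sum]
    simp only [map_sum, TensorProduct.tmul_add, map_add]
    congr 1
    exact Finset.sum_congr rfl fun r _ => by rw [key r ι₁ inferInstance, key r ι₂ inferInstance]

end Groth.Agent.TateFin22

end
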