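import Groth.Agent.Lib.TateFin22.Zarhin
import Groth.Agent.Lib.TateFin22.Graph2
import Groth.Agent.Lib.TateSub22.Semisimple
import Groth.Agent.Lib.TateSub22.PowSmul
import Groth.Agent.Lib.CubeField.AmpleExists
import Groth.Agent.Lib.Index22.Index
import Groth.Agent.Lib.TateTors22.HomFinite

/-!
# Tate's theorem from finiteness of bounded polarised varieties
-/

universe u

open CategoryTheory Limits MonoidalCategory CartesianMonoidalCategory AlgebraicGeometry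
open scoped MonObj GrpObj TensorProduct

set_option linter.style.haveILetI false
set_option linter.unusedSectionVars false
set_option maxHeartbeats 1000000
set_option synthInstance.maxHeartbeats 400000
set_option backward.isDefEq.respectTransparency false

noncomputable section

namespace Groth.Agent.TateFin22

open Groth.Agent.TateSub22

variable {k : Type u} [Field k] (Ω : Type u) [Field Ω] [Algebra k Ω] [IsAlgClosure k Ω] (l : ℕ) [Fact l.Prime]

/-- Finiteness of bounded polarised varieties. -/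
def BoundedFin (k : Type u) [Field k] : Prop :=
  ∀ g C : ℕ, ∃ (J : Type u) (_ : Finite J) (F : J → Over (Spec (CommRingCat.of k))),
    ∀ (Z : Over (Spec (CommRingCat.of k))) [GrpObj Z] [IsCommMonObj Z] [IsProper Z.hom] [GeometricallyIntegral Z.hom],
      topologicalKrullDim Z.left = g → ∀ L : Z.left.Modules, CohB1.IsAmple L →
        (@Curv2.euler k _ Z.left ⟨Z.hom⟩ L).natAbs ≤ C → ∃ j, Nonempty (Z ≅ F j)

include Ω in
theorem finHyp (hD : BoundedFin k) (hl : (l : k) ≠ 0) (X : Over (Spec (CommRingCat.of k))) [GrpObj X] [IsCommMonObj X]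
    [IsProper X.hom] [GeometricallyIntegral X.hom] : FinHyp l X := by
  obtain ⟨g, hg⟩ := Index22.exists_dim (A := X)
  obtain ⟨L₀, hL₀⟩ := CubeField.exists_isAmple X
  obtain ⟨C, hC⟩ := exists_zarhin Ω l hl hL₀ hg
  obtain ⟨J, hJ, F, hF⟩ := hD (8 * g) C
  refine ⟨J, hJ, F, fun Y _ _ _ _ u _ v _ n huv hvu => ?_⟩
  obtain ⟨Z, gZ, cZ, pZ, iZ, L, hL, hdim, hle, inc, hinc, prj, hprj, hip, a, b, m, ha, hb, hab⟩ :=
    hC Y u v n huv hvu
  exact ⟨Z, gZ, cZ, pZ, iZ, inc, hinc, prj, hprj, a, b, ha, hb, m, hip, hab, hF Z hdim L hL hle⟩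

include Ω in
/-- Tate's theorem. -/
theorem mem_span (hD : BoundedFin k) (hl : (l : k) ≠ 0) (A B : Over (Spec (CommRingCat.of k)))
    [GrpObj A] [IsCommMonObj A] [IsProper A.hom] [GeometricallyIntegral A.hom]
    [GrpObj B] [IsCommMonObj B] [IsProper B.hom] [GeometricallyIntegral B.hom]
    (ρA : (Ω ≃ₐ[k] Ω) → Module.End ℤ_[l] (AbDual.TateMod A l (SGA7.pt (K := k) Ω)))
    (hρA : ∀ τ z n, co Ω l n (ρA τ z) = SGA7.galAct τ (co Ω l n z))
    (ρB : (Ω ≃ₐ[k] Ω) → Module.End ℤ_[l] (AbDual.TateMod B l (SGA7.pt (K := k) Ω)))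
    (hρB : ∀ τ z n, co Ω l n (ρB τ z) = SGA7.galAct τ (co Ω l n z))
    (u : AbDual.TateMod A l (SGA7.pt (K := k) Ω) →ₗ[ℤ_[l]] AbDual.TateMod B l (SGA7.pt (K := k) Ω))
    (hu : ∀ τ z, u (ρA τ z) = ρB τ (u z)) :
    u ∈ Submodule.span ℤ_[l] (Set.range (EndAV.Hom.tateMap (A := A) (B := B) l (SGA7.pt (K := k) Ω))) := by
  classical
  haveI : IsAlgClosed Ω := IsAlgClosure.isAlgClosed k
  haveI : IsProper (A ⊗ B).hom := isProper_tensor
  haveI : GeometricallyIntegral (A ⊗ B).hom := AbRigid.geometricallyIntegral_tensorObj A B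
  haveI : IsCommMonObj (A ⊗ B) := isCommMonObj_of_isProper_of_geometricallyIntegral _
  haveI : Module.Free ℤ_[l] (AbDual.TateMod (A ⊗ B) l (SGA7.pt (K := k) Ω)) := TateTors22.free_tateMod (K := Ω) l hl
  haveI : Module.Finite ℤ_[l] (AbDual.TateMod (A ⊗ B) l (SGA7.pt (K := k) Ω)) := TateTors22.finite_tateMod (K := Ω) l hl
  haveI : Module.Free ℤ_[l] (AbDual.TateMod A l (SGA7.pt (K := k) Ω)) := TateTors22.free_tateMod (K := Ω) l hl
  haveI : Module.Free ℤ_[l] (AbDual.TateMod B l (SGA7.pt (K := k) Ω)) := TateTors22.free_tateMod (K := Ω) l hl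
  haveI : Module.Finite ℤ_[l] (AbDual.TateMod A l (SGA7.pt (K := k) Ω)) := TateTors22.finite_tateMod (K := Ω) l hl
  let ι₁ : A ⟶ A ⊗ B := lift (𝟙 A) 1
  let ι₂ : B ⟶ A ⊗ B := lift 1 (𝟙 B)
  haveI : IsMonHom ι₁ := by show IsMonHom (lift (𝟙 A) (1 : A ⟶ B)); rw [Hom.one_def]; infer_instance
  haveI : IsMonHom ι₂ := by show IsMonHom (lift (1 : B ⟶ A) (𝟙 B)); rw [Hom.one_def]; infer_instance
  let P₁ := AbDual.tateMapₗ (l := l) (T := SGA7.pt (K := k) Ω) (fst A B)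
  let P₂ := AbDual.tateMapₗ (l := l) (T := SGA7.pt (K := k) Ω) (snd A B)
  let J₁ := AbDual.tateMapₗ (l := l) (T := SGA7.pt (K := k) Ω) ι₁
  let J₂ := AbDual.tateMapₗ (l := l) (T := SGA7.pt (K := k) Ω) ι₂
  have h11 : ∀ x, P₁ (J₁ x) = x := fun x => by rw [map_comp']; exact map_id' Ω l (lift_fst _ _) x
  have h21 : ∀ x, P₂ (J₁ x) = 0 := fun x => by rw [map_comp']; exact map_one' Ω l (lift_snd _ _) x
  have h12 : ∀ x, P₁ (J₂ x) = 0 := fun x => by rw [map_comp']; exact map_one' Ω l (lift_fst _ _) x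
  have h22 : ∀ x, P₂ (J₂ x) = x := fun x => by rw [map_comp']; exact map_id' Ω l (lift_snd _ _) x
  let ρ : (Ω ≃ₐ[k] Ω) → Module.End ℤ_[l] (AbDual.TateMod (A ⊗ B) l (SGA7.pt (K := k) Ω)) := fun τ =>
    J₁ ∘ₗ ρA τ ∘ₗ P₁ + J₂ ∘ₗ ρB τ ∘ₗ P₂
  have hρ : ∀ τ z n, co Ω l n (ρ τ z) = SGA7.galAct τ (co Ω l n z) := fun τ z n => by
    show (co Ω l n (ρA τ (P₁ z)) ≫ ι₁) * (co Ω l n (ρB τ (P₂ z)) ≫ ι₂) = _
    rw [hρA, hρB]
    apply CartesianMonoidalCategory.hom_ext
    · rw [MonObj.mul_comp, Category.assoc, Category.assoc, lift_fst, lift_fst, MonObj.comp_one, Category.comp_id,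
        _root_.mul_one]
      exact (Category.assoc _ _ _).symm
    · rw [MonObj.mul_comp, Category.assoc, Category.assoc, lift_snd, lift_snd, MonObj.comp_one, Category.comp_id,
        _root_.one_mul]
      exact (Category.assoc _ _ _).symm
  let ψ : Module.End ℤ_[l] (AbDual.TateMod (A ⊗ B) l (SGA7.pt (K := k) Ω)) := J₂ ∘ₗ u ∘ₗ P₁
  have hψ : ∀ τ z, ψ (ρ τ z) = ρ τ (ψ z) := fun τ z => by
    simp only [ψ, ρ, LinearMap.comp_apply, LinearMap.add_apply, map_add, h11, h12, h22, map_zero, add_zero,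
      zero_add, hu]
  haveI : IsProper ((A ⊗ B) ⊗ (A ⊗ B)).hom := isProper_tensor
  haveI : GeometricallyIntegral ((A ⊗ B) ⊗ (A ⊗ B)).hom := AbRigid.geometricallyIntegral_tensorObj _ _
  haveI : IsCommMonObj ((A ⊗ B) ⊗ (A ⊗ B)) := isCommMonObj_of_isProper_of_geometricallyIntegral _
  obtain ⟨E, hE, hEspan⟩ := exists_subalgebra (A ⊗ B) Ω l
  haveI := hE
  have hmem : ψ.baseChange ℚ_[l] ∈ E := mem_of_commutes E _ fun c hc =>
    comm_of_equivariant Ω l hl (finHyp Ω l hD hl _) ρ hρ ψ hψ c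
      fun f hf => hc _ ((Subalgebra.mem_toSubmodule E).1 (hEspan ▸ Submodule.subset_span ⟨f, hf, rfl⟩))
  rw [← Subalgebra.mem_toSubmodule, hEspan] at hmem
  let Sp := Submodule.span ℤ_[l] (Set.range (EndAV.Hom.tateMap (A := A) (B := B) l (SGA7.pt (K := k) Ω)))
  -- clear denominators
  have key : ∀ e ∈ Submodule.span ℚ_[l] (endSet (A ⊗ B) Ω l), ∃ (a : ℕ) (s : _) (_ : s ∈ Sp),
      (l : ℚ_[l]) ^ a • (P₂.baseChange ℚ_[l] ∘ₗ e ∘ₗ J₁.baseChange ℚ_[l]) = s.baseChange ℚ_[l] := by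
    intro e he
    induction he using Submodule.span_induction with
    | mem x hx =>
      obtain ⟨f, hf, rfl⟩ := hx
      haveI := hf
      refine ⟨0, EndAV.Hom.tateMap (A := A) (B := B) l (SGA7.pt (K := k) Ω) (EndAV.Hom.of ((ι₁ ≫ f) ≫ snd A B)),
        Submodule.subset_span ⟨_, rfl⟩, ?_⟩
      rw [pow_zero, one_smul, ← LinearMap.baseChange_comp, ← LinearMap.baseChange_comp]
      refine congrArg (LinearMap.baseChange ℚ_[l]) (LinearMap.ext fun z => tate_ext Ω l fun n => ?_)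
      show ((co Ω l n z ≫ ι₁) ≫ f) ≫ snd A B = co Ω l n z ≫ ((ι₁ ≫ f) ≫ snd A B)
      simp only [Category.assoc]
    | zero => exact ⟨0, 0, zero_mem _, by simp⟩
    | add x y _ _ hx hy =>
      obtain ⟨a, s, hs, hse⟩ := hx
      obtain ⟨b, t, ht, hte⟩ := hy
      refine ⟨a + b, (l : ℤ_[l]) ^ b • s + (l : ℤ_[l]) ^ a • t,
        Submodule.add_mem _ (Submodule.smul_mem _ _ hs) (Submodule.smul_mem _ _ ht), ?_⟩
      rw [LinearMap.baseChange_add, LinearMap.baseChange_smul, LinearMap.baseChange_smul, ← hse, ← hte,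
        LinearMap.add_comp, LinearMap.comp_add, smul_add, ← algebraMap_smul ℚ_[l] ((l : ℤ_[l]) ^ b),
        ← algebraMap_smul ℚ_[l] ((l : ℤ_[l]) ^ a), smul_smul, smul_smul, _root_.map_pow, _root_.map_pow, map_natCast,
        ← pow_add, ← pow_add, Nat.add_comm b a]
    | smul q x _ hx =>
      obtain ⟨a, s, hs, hse⟩ := hx
      obtain ⟨b, t, ht⟩ := exists_pow_smul_eq l (q ⊗ₜ[ℤ_[l]] (1 : ℤ_[l]))
      have ht' : (l : ℚ_[l]) ^ b * q = (t : ℚ_[l]) := by
        have := congrArg (TensorProduct.rid ℤ_[l] ℚ_[l]) ht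
        rw [TensorProduct.smul_tmul', TensorProduct.rid_tmul, TensorProduct.rid_tmul, one_smul, smul_eq_mul,
          Algebra.smul_def, _root_.mul_one, PadicInt.algebraMap_apply] at this
        exact this
      refine ⟨b + a, t • s, Submodule.smul_mem _ _ hs, ?_⟩
      rw [LinearMap.baseChange_smul, ← hse, ← algebraMap_smul ℚ_[l] t, PadicInt.algebraMap_apply, ← ht',
        LinearMap.smul_comp, LinearMap.comp_smul, smul_smul, smul_smul, pow_add]
      congr 1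
      ring
  obtain ⟨a, s, hs, hse⟩ := key _ hmem
  refine TateTors22.mem_span_of_pow_smul_mem (K := Ω) l hl u a ?_
  have hus : (l : ℤ_[l]) ^ a • u = s := by
    refine LinearMap.ext fun z => inj_one_tmul Ω l ?_
    show (1 : ℚ_[l]) ⊗ₜ[ℤ_[l]] ((l : ℤ_[l]) ^ a • u) z = (1 : ℚ_[l]) ⊗ₜ[ℤ_[l]] s z
    rw [← LinearMap.baseChange_tmul, ← LinearMap.baseChange_tmul (f := s), ← hse, ← LinearMap.baseChange_comp,
      ← LinearMap.baseChange_comp, LinearMap.baseChange_smul, ← algebraMap_smul ℚ_[l] ((l : ℤ_[l]) ^ a),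
      _root_.map_pow, map_natCast]
    have e : P₂ ∘ₗ ψ ∘ₗ J₁ = u := LinearMap.ext fun x => by
      simp only [ψ, LinearMap.comp_apply, h22, h11]
    rw [e]
  exact hus ▸ hs

end Groth.Agent.TateFin22

end
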