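import Groth.Agent.Lib.FppfTriv22.Desc
import Groth.Agent.Lib.PicCoc15.Basic
import Groth.Agent.Lib.ParaFDesc27.PicDescent
import Groth.Agent.Lib.PicDesc21.Frame
import Groth.Agent.Lib.CubeField.Contract
import Mathlib.LinearAlgebra.Dual.Lemmas
import Mathlib.RingTheory.IntegralDomain

/-!
# Classes killed by a finite étale cover with constant functions are at most as many as deck transformations
-/

universe u

open CategoryTheory CategoryTheory.Limits AlgebraicGeometry TopologicalSpace Opposite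

set_option linter.style.haveILetI false
set_option backward.isDefEq.respectTransparency false

noncomputable section

namespace Groth.Agent.TateFin22

open Groth.Agent.M1

variable {X' Y' : Scheme.{u}} (F : X' ⟶ Y') {L : Y'.Modules}
  (φ : (Scheme.Modules.pullback F).obj L ≅ Coh.structureModule X')

/-- The function given by a section through a trivialisation of the pullback. -/
def tv {U : Y'.Opens} (t : Γ(L, U)) : Γ(X', F ⁻¹ᵁ U) := φ.hom.app (F ⁻¹ᵁ U) (M2.pullSec F L t)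

theorem tv_mres {U V : Y'.Opens} (h : V ≤ U) (t : Γ(L, U)) :
    tv F φ (mres L h t) = ores (F.preimage_mono h) (tv F φ t) := by
  simp only [tv, PicDesc21.pullSec_mres]
  exact (app_mres φ.hom _ _)

theorem tv_smul {U : Y'.Opens} (r : Γ(Y', U)) (t : Γ(L, U)) :
    tv F φ (r • t) = F.app U r * tv F φ t := by
  show φ.hom.app (F ⁻¹ᵁ U) (M2.pullSec F L (r • t)) = _
  rw [M2.pullSec_smul]
  exact Scheme.Modules.Hom.app_smul φ.hom _ _

theorem isUnit_tv {U : Y'.Opens} {t : Γ(L, U)} (ht : Twist.IsGen L U t) : IsUnit (tv F φ t) := by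
  obtain ⟨r, hr⟩ := (ParaFDesc27.isGen_map_iso φ (ht.pullback F) (F ⁻¹ᵁ U) le_rfl).2 (1 : Γ(X', F ⁻¹ᵁ U))
  simp only [mres_id] at hr
  exact IsUnit.of_mul_eq_one (a := tv F φ t) r ((mul_comm _ _).trans hr)

variable {G : Type u} [Group G] (τ : G → (X' ⟶ X')) (hτ : ∀ a, τ a ≫ F = F)

include hτ in
theorem le_tau (a : G) (U : Y'.Opens) : F ⁻¹ᵁ U ≤ (τ a) ⁻¹ᵁ (F ⁻¹ᵁ U) := fun x hx => by
  show F (τ a x) ∈ U
  rw [← Scheme.Hom.comp_apply, hτ]
  exact hx

include hτ in
theorem tau_app (a : G) {U : Y'.Opens} (r : Γ(Y', U)) :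
    (τ a).appLE _ _ (le_tau F τ hτ a U) (F.app U r) = F.app U r := by
  rw [PicDesc21.appLE_app]
  simp only [hτ]
  exact congr($(F.appLE_eq_app) r)

include hτ in
theorem tau_ores (a : G) {U V : Y'.Opens} (h : V ≤ U) (f : Γ(X', F ⁻¹ᵁ U)) :
    ores (F.preimage_mono h) ((τ a).appLE _ _ (le_tau F τ hτ a U) f) =
      (τ a).appLE _ _ (le_tau F τ hτ a V) (ores (F.preimage_mono h) f) := by
  rw [PicDesc21.appLE_res]
  exact (ConcreteCategory.congr_hom
    (Scheme.Hom.map_appLE (τ a) (le_tau F τ hτ a V) (homOfLE (F.preimage_mono h)).op) f).symm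

/-- The multiplier of a deck transformation on a trivialisation. -/
def IsMult (a : G) (C : Γ(X', ⊤)) : Prop :=
  ∀ (U : Y'.Opens) (t : Γ(L, U)), Twist.IsGen L U t →
    (τ a).appLE _ _ (le_tau F τ hτ a U) (tv F φ t) = ores le_top C * tv F φ t

theorem iSup_gen (hL : PicF.IsInvertible L) :
    ⊤ ≤ ⨆ i : Σ U : Y'.Opens, {t : Γ(L, U) // Twist.IsGen L U t}, F ⁻¹ᵁ i.1 := fun x _ => by
  obtain ⟨U, t, hx, ht⟩ := ProjUP.exists_isGen_of_invertible hL (F x)
  exact Opens.mem_iSup.2 ⟨⟨U, t, ht⟩, hx⟩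

theorem exists_isMult (hL : PicF.IsInvertible L) (a : G) : ∃ C, IsMult F φ τ hτ a C := by
  let ι := Σ U : Y'.Opens, {t : Γ(L, U) // Twist.IsGen L U t}
  let v : ι → (Σ U : Y'.Opens, Γ(X', F ⁻¹ᵁ U)) := fun i => ⟨i.1, tv F φ i.2.1⟩
  choose w hw using fun i : ι => (isUnit_tv F φ i.2.2).exists_right_inv
  let c : ∀ i : ι, Γ(X', F ⁻¹ᵁ i.1) := fun i =>
    (τ a).appLE _ _ (le_tau F τ hτ a i.1) (tv F φ i.2.1) * w i
  have hc : ∀ i : ι, (τ a).appLE _ _ (le_tau F τ hτ a i.1) (tv F φ i.2.1) = c i * tv F φ i.2.1 := fun i => by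
    simp only [c]
    rw [mul_assoc, mul_comm (w i), hw, mul_one]
  have key : ∀ (i : ι) (V : Y'.Opens) (h : V ≤ i.1), (τ a).appLE _ _ (le_tau F τ hτ a V) (tv F φ (mres L h i.2.1)) =
      ores (F.preimage_mono h) (c i) * tv F φ (mres L h i.2.1) := fun i V h => by
    rw [tv_mres, ← tau_ores F τ hτ a h, hc, map_mul]
  have hcompat : ∀ i j : ι, ores (inf_le_left : F ⁻¹ᵁ i.1 ⊓ F ⁻¹ᵁ j.1 ≤ F ⁻¹ᵁ i.1) (c i) =
      ores (inf_le_right : F ⁻¹ᵁ i.1 ⊓ F ⁻¹ᵁ j.1 ≤ F ⁻¹ᵁ j.1) (c j) := fun i j => by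
    obtain ⟨r, hr⟩ := (j.2.2 (i.1 ⊓ j.1) inf_le_right).2 (mres L inf_le_left i.2.1)
    simp only at hr
    have e := key i (i.1 ⊓ j.1) inf_le_left
    rw [← hr, tv_smul, map_mul, tau_app F τ hτ, key j (i.1 ⊓ j.1) inf_le_right, ← tv_smul, hr, ← mul_assoc,
      mul_comm (F.app _ r), mul_assoc, ← tv_smul, hr] at e
    exact ((isUnit_tv F φ (i.2.2.mres inf_le_left)).mul_right_cancel e).symm
  obtain ⟨C, hC, -⟩ := X'.sheaf.existsUnique_gluing' (fun i : ι => F ⁻¹ᵁ i.1) ⊤ (fun i => homOfLE le_top)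
    (iSup_gen F hL) c hcompat
  refine ⟨C, fun U t ht => ?_⟩
  rw [hc ⟨U, t, ht⟩]
  exact congrArg (· * _) (hC ⟨U, t, ht⟩).symm

theorem IsMult.unique (hL : PicF.IsInvertible L) {a : G} {C C' : Γ(X', ⊤)} (h : IsMult F φ τ hτ a C)
    (h' : IsMult F φ τ hτ a C') : C = C' :=
  TopCat.Sheaf.eq_of_locally_eq' X'.sheaf (fun i : Σ U : Y'.Opens, {t : Γ(L, U) // Twist.IsGen L U t} => F ⁻¹ᵁ i.1) ⊤
    (fun _ => homOfLE le_top) (iSup_gen F hL) C C' fun i =>
      (isUnit_tv F φ i.2.2).mul_right_cancel ((h i.1 i.2.1 i.2.2).symm.trans (h' i.1 i.2.1 i.2.2))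

theorem isMult_one (h1 : τ 1 = 𝟙 X') : IsMult F φ τ hτ 1 1 := fun U t _ => by
  rw [map_one, one_mul]
  simp only [h1]
  rw [show (𝟙 X' : X' ⟶ X').appLE (F ⁻¹ᵁ U) (F ⁻¹ᵁ U) le_rfl = 𝟙 _ from by simp only [Scheme.Hom.appLE, Scheme.Hom.id_app, homOfLE_refl, op_id, Category.id_comp]; exact X'.presheaf.map_id _]
  rfl

theorem IsMult.mul (hmul : ∀ a b, τ (a * b) = τ b ≫ τ a)
    (hfix : ∀ (a : G) (f : Γ(X', ⊤)), (τ a).appTop f = f) {a b : G} {A B : Γ(X', ⊤)}
    (ha : IsMult F φ τ hτ a A) (hb : IsMult F φ τ hτ b B) : IsMult F φ τ hτ (a * b) (A * B) := fun U t ht => by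
  have h1 := congrArg ((τ b).appLE _ _ (le_tau F τ hτ b U)) (ha U t ht)
  rw [map_mul, PicDesc21.appLE_appLE, hb U t ht] at h1
  have h2 : (τ b).appLE _ _ (le_tau F τ hτ b U) (ores le_top A) = ores le_top A := by
    conv_rhs => rw [← hfix b A]
    rw [← CommRingCat.comp_apply, Scheme.Hom.map_appLE, show (τ b).appTop = (τ b).appLE ⊤ ⊤ le_rfl from
      (τ b).app_eq_appLE]
    exact (ConcreteCategory.congr_hom (Scheme.Hom.appLE_map (τ b) le_rfl (homOfLE (le_top : F ⁻¹ᵁ U ≤ ⊤)).op) A).symm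
  rw [h2] at h1
  rw [map_mul, mul_assoc, ← h1]
  simp only [hmul]

section descent

variable [Flat F] [LocallyOfFinitePresentation F] [Surjective F] [IsReduced (pullback F F)]
  [JacobsonSpace (pullback F F : Scheme.{u})]
  (hcover : ∀ z : (pullback F F : Scheme.{u}), IsClosed ({z} : Set (pullback F F : Scheme.{u})) →
    ∃ (a : G) (x : X'), pullback.lift (f := F) (g := F) (𝟙 X') (τ a) (by rw [hτ, Category.id_comp]) x = z)

include hcover in
theorem exists_descend (U : Y'.Opens) (w : Γ(X', F ⁻¹ᵁ U))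
    (hw : ∀ a, (τ a).appLE _ _ (le_tau F τ hτ a U) w = w) : ∃ z, F.app U z = w := by
  let q₁ := pullback.fst F F
  let q₂ := pullback.snd F F
  let W := q₁ ⁻¹ᵁ (F ⁻¹ᵁ U)
  have hW : W ≤ q₂ ⁻¹ᵁ (F ⁻¹ᵁ U) := fun z hz => by
    show F (q₂ z) ∈ U
    rw [← Scheme.Hom.comp_apply, ← pullback.condition, Scheme.Hom.comp_apply]
    exact hz
  have key : q₁.appLE _ W le_rfl w = q₂.appLE _ W hW w := by
    refine sub_eq_zero.1 (eq_zero_of_basicOpen_eq_bot _ ?_)
    set d := q₁.appLE _ W le_rfl w - q₂.appLE _ W hW w with hd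
    refine CubeField.opens_eq_of_closedPoints fun z hz => ⟨fun hzd => ?_, fun h => h.elim⟩
    obtain ⟨a, x, rfl⟩ := hcover z hz
    let σ := pullback.lift (f := F) (g := F) (𝟙 X') (τ a) (by rw [hτ, Category.id_comp])
    have hσ : σ.app W d = 0 := by
      have e : σ ⁻¹ᵁ W ≤ F ⁻¹ᵁ U := fun y hy => by
        have := show F ((σ ≫ q₁) y) ∈ U from hy
        rwa [pullback.lift_fst] at this
      rw [hd, map_sub, sub_eq_zero, Scheme.Hom.app_eq_appLE, PicDesc21.appLE_appLE, PicDesc21.appLE_appLE]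
      simp only [σ, q₁, q₂, pullback.lift_fst, pullback.lift_snd]
      have e1 : (𝟙 X' : X' ⟶ X').appLE (F ⁻¹ᵁ U) (σ ⁻¹ᵁ W) (by simpa using e) w = ores e w := by
        simp only [Scheme.Hom.appLE, Scheme.Hom.id_app, Category.id_comp]
      refine e1.trans ?_
      conv_lhs => rw [← hw a]
      exact PicDesc21.appLE_res _ _ _ _
    have h0 : x ∈ σ ⁻¹ᵁ (pullback F F : Scheme.{u}).basicOpen d := hzd
    rw [Scheme.preimage_basicOpen, hσ, Scheme.basicOpen_zero] at h0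
    exact h0
  refine (FppfTriv22.desc_fun F U fun y _ => F.surjective y).2 w fun {Y} p q hpq hp hq => ?_
  let l := pullback.lift p q hpq
  have hl : ⊤ ≤ l ⁻¹ᵁ W := fun y hy => by
    show F ((l ≫ q₁) y) ∈ U
    rw [pullback.lift_fst]
    exact hp hy
  have h1 := congrArg (l.appLE W ⊤ hl) key
  rw [PicDesc21.appLE_appLE, PicDesc21.appLE_appLE] at h1
  simpa only [l, q₁, q₂, pullback.lift_fst, pullback.lift_snd] using h1

include hcover in
/-- Trivialisations with equal multipliers descend to an isomorphism. -/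
theorem nonempty_iso {L' : Y'.Modules} (φ' : (Scheme.Modules.pullback F).obj L' ≅ Coh.structureModule X')
    (hL : PicF.IsInvertible L) (hL' : PicF.IsInvertible L') (C : G → Γ(X', ⊤))
    (hC : ∀ a, IsUnit (C a)) (h : ∀ a, IsMult F φ τ hτ a (C a)) (h' : ∀ a, IsMult F φ' τ hτ a (C a)) :
    Nonempty (L ≅ L') := by
  choose U₀ s₀ hx₀ hs₀ using fun x : Y' => ProjUP.exists_isGen_of_invertible hL x
  choose U₁ s₁ hx₁ hs₁ using fun x : Y' => ProjUP.exists_isGen_of_invertible hL' x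
  let U : Y' → Y'.Opens := fun x => U₀ x ⊓ U₁ x
  have hcov : iSup U = ⊤ := top_le_iff.1 fun x _ => Opens.mem_iSup.2 ⟨x, hx₀ x, hx₁ x⟩
  let s : ∀ i, Γ(L, U i) := fun i => mres L inf_le_left (s₀ i)
  let s' : ∀ i, Γ(L', U i) := fun i => mres L' inf_le_right (s₁ i)
  have hs : ∀ i, Twist.IsGen L (U i) (s i) := fun i => (hs₀ i).mres _
  have hs' : ∀ i, Twist.IsGen L' (U i) (s' i) := fun i => (hs₁ i).mres _
  choose η hη using fun i j => (hs j (U i ⊓ U j) inf_le_right).2 (mres L inf_le_left (s i))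
  choose η' hη' using fun i j => (hs' j (U i ⊓ U j) inf_le_right).2 (mres L' inf_le_left (s' i))
  simp only at hη hη'
  choose w hw using fun i => (isUnit_tv F φ' (hs' i)).exists_right_inv
  choose w' hw' using fun i => (isUnit_tv F φ (hs i)).exists_right_inv
  have hinv : ∀ i a, (τ a).appLE _ _ (le_tau F τ hτ a (U i)) (tv F φ (s i) * w i) = tv F φ (s i) * w i :=
    fun i a => by
    have e2 : (τ a).appLE _ _ (le_tau F τ hτ a (U i)) (tv F φ' (s' i)) *
        (τ a).appLE _ _ (le_tau F τ hτ a (U i)) (w i) = 1 := by rw [← map_mul, hw, map_one]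
    rw [h' a _ _ (hs' i)] at e2
    rw [map_mul, h a _ _ (hs i)]
    linear_combination (tv F φ (s i) * w i) * e2 -
      (tv F φ (s i) * ores le_top (C a) * (τ a).appLE _ _ (le_tau F τ hτ a (U i)) (w i)) * hw i
  choose z hz using fun i => exists_descend F τ hτ hcover (U i) _ (hinv i)
  have hinv' : ∀ i a, (τ a).appLE _ _ (le_tau F τ hτ a (U i)) (tv F φ' (s' i) * w' i) = tv F φ' (s' i) * w' i :=
    fun i a => by
    have e2 : (τ a).appLE _ _ (le_tau F τ hτ a (U i)) (tv F φ (s i)) *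
        (τ a).appLE _ _ (le_tau F τ hτ a (U i)) (w' i) = 1 := by rw [← map_mul, hw', map_one]
    rw [h a _ _ (hs i)] at e2
    rw [map_mul, h' a _ _ (hs' i)]
    linear_combination (tv F φ' (s' i) * w' i) * e2 -
      (tv F φ' (s' i) * ores le_top (C a) * (τ a).appLE _ _ (le_tau F τ hτ a (U i)) (w' i)) * hw' i
  choose z' hz' using fun i => exists_descend F τ hτ hcover (U i) _ (hinv' i)
  have hinj : ∀ V : Y'.Opens, Function.Injective (F.app V) := fun V =>
    (FppfTriv22.desc_fun F V fun y _ => F.surjective y).1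
  have hzz : ∀ i, z i * z' i = 1 := fun i => hinj _ (by
    rw [map_mul, hz, hz', map_one]
    linear_combination (w' i * tv F φ (s i)) * hw i + hw' i)
  refine (PicCoc15.nonempty_iso_iff U hcov L L' s s' hs hs' η η' (fun i j => (hη i j).symm)
    (fun i j => (hη' i j).symm)).2 ⟨fun i => ⟨z i, z' i, hzz i, (mul_comm _ _).trans (hzz i)⟩, fun i j => ?_⟩
  refine hinj _ ?_
  have hnat : ∀ {P Q : Y'.Opens} (h : Q ≤ P) (a : Γ(Y', P)),
      F.app Q (ores h a) = ores (F.preimage_mono h) (F.app P a) :=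
    fun h a => ConcreteCategory.congr_hom (F.naturality (homOfLE h).op) a
  clear_value s s'
  have e1 := congrArg (tv F φ) (hη i j)
  have e1' := congrArg (tv F φ') (hη' i j)
  rw [tv_smul, tv_mres, tv_mres] at e1 e1'
  have e3 := congrArg (ores (F.preimage_mono (inf_le_left : U i ⊓ U j ≤ U i))) (hw i)
  have e4 := congrArg (ores (F.preimage_mono (inf_le_right : U i ⊓ U j ≤ U j))) (hw j)
  rw [map_mul, map_one] at e3 e4
  simp only [map_mul, hnat, hz]
  generalize ores (F.preimage_mono (inf_le_left : U i ⊓ U j ≤ U i)) (tv F φ (s i)) = a at e1 ⊢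
  generalize ores (F.preimage_mono (inf_le_right : U i ⊓ U j ≤ U j)) (tv F φ (s j)) = b at e1 ⊢
  generalize ores (F.preimage_mono (inf_le_left : U i ⊓ U j ≤ U i)) (tv F φ' (s' i)) = a' at e1' e3
  generalize ores (F.preimage_mono (inf_le_right : U i ⊓ U j ≤ U j)) (tv F φ' (s' j)) = b' at e1' e4
  generalize ores (F.preimage_mono (inf_le_left : U i ⊓ U j ≤ U i)) (w i) = p at e3 ⊢
  generalize ores (F.preimage_mono (inf_le_right : U i ⊓ U j ≤ U j)) (w j) = q at e4 ⊢
  linear_combination (-(F.app _ (η' i j) * a * p)) * e4 + (a * p * q) * e1' + (a * q) * e3 - q * e1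

include hcover in
/-- Classes killed by the cover are at most as many as deck transformations. -/
theorem card_le_of_killed [Finite G] [IsDomain Γ(X', ⊤)] (h1 : τ 1 = 𝟙 X')
    (hmul : ∀ a b, τ (a * b) = τ b ≫ τ a) (hfix : ∀ (a : G) (f : Γ(X', ⊤)), (τ a).appTop f = f)
    {S : Type*} (M : S → Y'.Modules) (hM : ∀ s, PicF.IsInvertible (M s))
    (hk : ∀ s, Nonempty ((Scheme.Modules.pullback F).obj (M s) ≅ Coh.structureModule X'))
    (hS : ∀ s t, Nonempty (M s ≅ M t) → s = t) : Finite S ∧ Nat.card S ≤ Nat.card G := by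
  classical
  let ψ := fun s => (hk s).some
  choose C hC using fun s a => exists_isMult F (ψ s) τ hτ (hM s) a
  let χ : S → (G →* Γ(X', ⊤)) := fun s =>
    { toFun := C s
      map_one' := (hC s 1).unique F _ τ hτ (hM s) (isMult_one F _ τ hτ h1)
      map_mul' := fun a b => (hC s (a * b)).unique F _ τ hτ (hM s) ((hC s a).mul F _ τ hτ hmul hfix (hC s b)) }
  have hχ : Function.Injective χ := fun s t e => hS s t <| by
    have e' : C s = C t := congrArg (fun f : G →* Γ(X', ⊤) => (f : G → Γ(X', ⊤))) e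
    exact nonempty_iso F (ψ s) τ hτ hcover (ψ t) (hM s) (hM t) (C s)
      (fun a => (Group.isUnit a).map (χ s)) (hC s) (e' ▸ hC t)
  have hli := linearIndependent_monoidHom G Γ(X', ⊤)
  haveI : Finite (G →* Γ(X', ⊤)) := hli.finite
  haveI : Fintype (G →* Γ(X', ⊤)) := Fintype.ofFinite _
  haveI : Fintype G := Fintype.ofFinite _
  refine ⟨Finite.of_injective χ hχ, (Nat.card_le_card_of_injective χ hχ).trans ?_⟩
  rw [Nat.card_eq_fintype_card, Nat.card_eq_fintype_card]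
  exact hli.fintype_card_le_finrank.trans (Module.finrank_pi Γ(X', ⊤)).le

end descent

end Groth.Agent.TateFin22

end
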