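import Groth.Agent.Lib.AlgEquiv22.Basic
import Mathlib.NumberTheory.SumFourSquares
import Mathlib.Algebra.BigOperators.Fin

/-!
# The biadditive form of a class and four squares
-/

universe u

open CategoryTheory Limits MonoidalCategory CartesianMonoidalCategory AlgebraicGeometry
open scoped MonObj GrpObj

set_option linter.style.haveILetI false
set_option linter.unusedSectionVars false
set_option backward.isDefEq.respectTransparency false

noncomputable section

namespace Groth.Agent.TateFin22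

open Groth.Agent.AlgEquiv22

section Algebra

variable {G H : Type*} [CommGroup G] [CommGroup H] (β : G →* G →* H) (hβ : ∀ a b, β a b = β b a)

include hβ in
theorem quad_cross (x w : G) : β (x * w⁻¹) (x * w⁻¹) * β (x * w⁻¹) w ^ 2 = β x x * (β w w)⁻¹ := by
  simp only [map_mul, map_inv, MonoidHom.mul_apply, MonoidHom.inv_apply, hβ w x, pow_two, mul_inv_rev, inv_inv]
  calc β x x * (β x w)⁻¹ * (β w w * (β x w)⁻¹) * (β x w * (β w w)⁻¹ * (β x w * (β w w)⁻¹))
      = (β x x * (β w w)⁻¹) * ((β x w * (β x w)⁻¹) * (β x w * (β x w)⁻¹) * (β w w * (β w w)⁻¹)) := by ac_rfl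
    _ = β x x * (β w w)⁻¹ := by simp

/-- The diagonalisation behind Zarhin's trick. -/
theorem zarhin_identity {J : Type*} [Fintype J] [DecidableEq J] (hβ : ∀ a b, β a b = β b a) (M : J → J → ℤ) (c : ℕ)
    (hM : ∀ j j', ∑ i, M i j * M i j' = if j = j' then (c : ℤ) - 1 else 0) (x y : J → G) :
    (∏ i, β (x i * (∏ j, y j ^ M i j)⁻¹) (x i * (∏ j, y j ^ M i j)⁻¹)) * (∏ j, β (y j) (y j) ^ c) *
      (∏ i, ∏ j, β (x i * (∏ j', y j' ^ M i j')⁻¹) (y j) ^ (2 * M i j)) =
    (∏ i, β (x i) (x i)) * ∏ j, β (y j) (y j) := by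
  set w : J → G := fun i => ∏ j, y j ^ M i j with hw
  have h1 : ∀ i, ∏ j, β (x i * (w i)⁻¹) (y j) ^ (2 * M i j) = β (x i * (w i)⁻¹) (w i) ^ 2 := fun i => by
    simp only [hw, map_prod, map_zpow]
    rw [← Finset.prod_pow]
    exact Finset.prod_congr rfl fun j _ => by rw [pow_two, ← zpow_add, two_mul]
  have h2 : ∏ i, β (w i) (w i) = ∏ j, β (y j) (y j) ^ ((c : ℤ) - 1) := by
    simp only [hw, map_prod, map_zpow, MonoidHom.finsetProd_apply]
    have e : ∀ i j, (∏ j', (β (y j') ^ M i j') (y j)) ^ M i j = ∏ j', β (y j') (y j) ^ (M i j' * M i j) := fun i j => by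
      rw [← Finset.prod_zpow]
      exact Finset.prod_congr rfl fun j' _ => by rw [MonoidHom.zpow_apply, ← zpow_mul]
    simp only [e]
    rw [Finset.prod_comm]
    refine Finset.prod_congr rfl fun j _ => ?_
    rw [Finset.prod_comm]
    rw [Finset.prod_eq_single j]
    · rw [← zpow_sum₀', hM j j, if_pos rfl]
    · intro j' _ hne
      rw [← zpow_sum₀', hM j' j, if_neg hne, zpow_zero]
    · intro h; exact absurd (Finset.mem_univ j) h
  show (∏ i, β (x i * (w i)⁻¹) (x i * (w i)⁻¹)) * (∏ j, β (y j) (y j) ^ c) *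
      (∏ i, ∏ j, β (x i * (w i)⁻¹) (y j) ^ (2 * M i j)) = _
  simp only [h1]
  calc (∏ i, β (x i * (w i)⁻¹) (x i * (w i)⁻¹)) * (∏ j, β (y j) (y j) ^ c) * (∏ i, β (x i * (w i)⁻¹) (w i) ^ 2)
      = (∏ i, β (x i * (w i)⁻¹) (x i * (w i)⁻¹) * β (x i * (w i)⁻¹) (w i) ^ 2) * ∏ j, β (y j) (y j) ^ c := by
        rw [Finset.prod_mul_distrib]; ac_rfl
    _ = (∏ i, β (x i) (x i)) * (∏ i, β (w i) (w i))⁻¹ * ∏ j, β (y j) (y j) ^ c := by
        simp only [quad_cross β hβ, Finset.prod_mul_distrib, Finset.prod_inv_distrib]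
    _ = (∏ i, β (x i) (x i)) * ∏ j, β (y j) (y j) := by
        rw [h2, _root_.mul_assoc, ← Finset.prod_inv_distrib, ← Finset.prod_mul_distrib]
        congr 1
        refine Finset.prod_congr rfl fun j _ => ?_
        rw [zpow_sub, zpow_natCast, zpow_one, mul_inv_rev, inv_inv, _root_.mul_assoc, inv_mul_cancel, _root_.mul_one]
where
  zpow_sum₀' {κ : Type _} {a : H} {s : Finset κ} {f : κ → ℤ} : a ^ (∑ i ∈ s, f i) = ∏ i ∈ s, a ^ f i := by
    classical
    induction s using Finset.induction_on with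
    | empty => simp
    | insert i s hi ih => rw [Finset.sum_insert hi, Finset.prod_insert hi, zpow_add, ih]

theorem exists_four (c : ℕ) (hc : 1 ≤ c) : ∃ M : Fin 4 → Fin 4 → ℤ,
    ∀ j j', ∑ i, M i j * M i j' = if j = j' then (c : ℤ) - 1 else 0 := by
  obtain ⟨a, b, p, q, h⟩ := Nat.sum_four_squares (c - 1)
  have h' : (c : ℤ) - 1 = (a : ℤ) ^ 2 + (b : ℤ) ^ 2 + (p : ℤ) ^ 2 + (q : ℤ) ^ 2 := by
    rw [show (c : ℤ) - 1 = ((c - 1 : ℕ) : ℤ) by omega, ← h]
    push_cast
    ring
  refine ⟨![![(a : ℤ), -b, -p, -q], ![(b : ℤ), a, -q, p], ![(p : ℤ), q, a, -b], ![(q : ℤ), -p, b, a]],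
    fun j j' => ?_⟩
  rw [h']
  fin_cases j <;> fin_cases j' <;> simp [Fin.sum_univ_four] <;> ring

end Algebra

noncomputable local instance instLawTF (Y : Scheme.{u}) : PicGrp.Law Y := M2.law Y

variable {k : Type u} [Field k] {A : Over (Spec (CommRingCat.of k))} [GrpObj A]

/-- The biadditive form of a class. -/
def bl (c : PicLoc.PicSet A.left) {V : Over (Spec (CommRingCat.of k))} (f g : V ⟶ A) : PicLoc.PicSet V.left :=
  pb (f * g) c * (pb f c * pb g c)⁻¹

theorem pb_bl (c : PicLoc.PicSet A.left) {V W : Over (Spec (CommRingCat.of k))} (s : W ⟶ V) (f g : V ⟶ A) :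
    pb s (bl c f g) = bl c (s ≫ f) (s ≫ g) := by
  simp only [bl, map_mul, map_inv, pb_pb, MonObj.comp_mul]

theorem pb_one (c : PicLoc.PicSet A.left) {V : Over (Spec (CommRingCat.of k))} : pb (1 : V ⟶ A) c = 1 :=
  pb_const _ c

theorem bl_one_left (c : PicLoc.PicSet A.left) {V : Over (Spec (CommRingCat.of k))} (g : V ⟶ A) :
    bl c 1 g = 1 := by
  rw [bl, _root_.one_mul, pb_one, _root_.one_mul, mul_inv_cancel]

theorem bl_hom {B : Over (Spec (CommRingCat.of k))} [GrpObj B] (v : B ⟶ A) [IsMonHom v]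
    (c : PicLoc.PicSet A.left) {V : Over (Spec (CommRingCat.of k))} (f g : V ⟶ B) :
    bl (pb v c) f g = bl c (f ≫ v) (g ≫ v) := by
  simp only [bl, pb_pb, MonObj.mul_comp]

variable [IsCommMonObj A]

theorem bl_comm (c : PicLoc.PicSet A.left) {V : Over (Spec (CommRingCat.of k))} (f g : V ⟶ A) :
    bl c f g = bl c g f := by
  rw [bl, bl, _root_.mul_comm f g, _root_.mul_comm (pb f c)]

variable [IsProper A.hom] [GeometricallyIntegral A.hom]

theorem bl_mul_left (c : PicLoc.PicSet A.left) {V : Over (Spec (CommRingCat.of k))} (f h g : V ⟶ A) :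
    bl c (f * h) g = bl c f g * bl c h g := by
  obtain ⟨L, hL, rfl⟩ := PicGrp.exists_eq_cls c
  have hP : ∀ {W : Over (Spec (CommRingCat.of k))} (s : W ⟶ A), pb s (PicGrp.cls L hL) = CubeField.P L hL s :=
    fun s => PicGrp.pullHom_cls _ _ _ _
  have hsq := CubeField.square (L := L) (hL := hL) CubeField.finH1 f h g
  simp only [bl, hP]
  have e : CubeField.P L hL (f * h * g) = CubeField.P L hL (f * h) * CubeField.P L hL (f * g) * CubeField.P L hL (h * g) *
      (CubeField.P L hL f * CubeField.P L hL h * CubeField.P L hL g)⁻¹ := by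
    rw [← hsq, eq_mul_inv_iff_mul_eq]
    ac_rfl
  rw [e]
  simp only [mul_inv_rev]
  generalize CubeField.P L hL (f * h) = a
  generalize CubeField.P L hL (f * g) = b
  generalize CubeField.P L hL (h * g) = d
  generalize CubeField.P L hL f = p
  generalize CubeField.P L hL h = q
  generalize CubeField.P L hL g = r
  calc a * b * d * (r⁻¹ * (q⁻¹ * p⁻¹)) * (r⁻¹ * a⁻¹) = (a * a⁻¹) * (b * (r⁻¹ * p⁻¹) * (d * (r⁻¹ * q⁻¹))) := by ac_rfl
    _ = b * (r⁻¹ * p⁻¹) * (d * (r⁻¹ * q⁻¹)) := by rw [mul_inv_cancel, _root_.one_mul]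

/-- The form as a pair of homomorphisms. -/
def blHom (c : PicLoc.PicSet A.left) (V : Over (Spec (CommRingCat.of k))) :
    (V ⟶ A) →* (V ⟶ A) →* PicLoc.PicSet V.left where
  toFun f :=
    { toFun := fun g => bl c f g
      map_one' := by rw [bl_comm, bl_one_left]
      map_mul' := fun g h => by rw [bl_comm, bl_mul_left, bl_comm c g, bl_comm c h] }
  map_one' := MonoidHom.ext fun g => bl_one_left c g
  map_mul' f h := MonoidHom.ext fun g => bl_mul_left c f h g

theorem blHom_apply (c : PicLoc.PicSet A.left) {V : Over (Spec (CommRingCat.of k))} (f g : V ⟶ A) :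
    blHom c V f g = bl c f g := rfl

/-- The form on the diagonal is the symmetrisation. -/
theorem bl_self (c : PicLoc.PicSet A.left) {V : Over (Spec (CommRingCat.of k))} (f : V ⟶ A) :
    bl c f f = pb f c * pb f⁻¹ c := by
  have h : bl c f f⁻¹ = (bl c f f)⁻¹ := map_inv (blHom c V f) f
  rw [← inv_inv (bl c f f), ← h, bl, mul_inv_cancel, pb_one, _root_.one_mul, inv_inv]

end Groth.Agent.TateFin22

end
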