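import Groth.Agent.Lib.TateFin22.CharKernel
import Groth.Agent.Lib.TateFin22.Bilin
import Groth.Agent.Lib.GITQuot.Orbit
import Groth.Agent.Lib.AbDual21.Phi
import Groth.Agent.Lib.MidExact25.Main
import Groth.Agent.Lib.TateTors22.GenField
import Groth.Agent.Lib.LocSymB.Values
import Groth.Prelude.Def_SGA7a

/-!
# Classes on `Y ⊗ Ω` killed by an isogeny
-/

universe u

open CategoryTheory Limits MonoidalCategory CartesianMonoidalCategory AlgebraicGeometry TopologicalSpace
open scoped MonObj GrpObj

set_option linter.style.haveILetI false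
set_option linter.unusedSectionVars false
set_option backward.isDefEq.respectTransparency false

noncomputable section

namespace Groth.Agent.TateFin22

open Groth.Agent.AlgEquiv22

noncomputable local instance instLawCP (Y : Scheme.{u}) : PicGrp.Law Y := M2.law Y

variable {k : Type u} [Field k] {X Y : Over (Spec (CommRingCat.of k))} [GrpObj X] [IsCommMonObj X] [GrpObj Y]
  [IsProper X.hom] [GeometricallyIntegral X.hom] (p : X ⟶ Y) [IsMonHom p] [IsFinite p.left] [Etale p.left]
  [Surjective p.left] (Ω : Type u) [Field Ω] [IsAlgClosed Ω] [Algebra k Ω]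

/-- Geometric points of the kernel. -/
def kerPts : Subgroup (SGA7.pt (K := k) Ω ⟶ X) where
  carrier := {a | a ≫ p = 1}
  one_mem' := MonObj.one_comp p
  mul_mem' {a b} ha hb := by
    show (a * b) ≫ p = 1
    rw [MonObj.mul_comp, ha, hb, _root_.mul_one]
  inv_mem' {a} ha := by
    show a⁻¹ ≫ p = 1
    rw [GrpObj.inv_comp, ha, inv_one]

/-- Translation by a geometric point. -/
def deck (a : SGA7.pt (K := k) Ω ⟶ X) : X ⊗ SGA7.pt (K := k) Ω ⟶ X ⊗ SGA7.pt (K := k) Ω :=
  lift (fst X _ * (snd X _ ≫ a)) (snd X _)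

theorem deck_whisker {a : SGA7.pt (K := k) Ω ⟶ X} (ha : a ≫ p = 1) :
    deck Ω a ≫ (p ▷ SGA7.pt (K := k) Ω) = p ▷ SGA7.pt (K := k) Ω := by
  refine CartesianMonoidalCategory.hom_ext _ _ ?_ ?_
  · simp only [deck, Category.assoc, whiskerRight_fst, lift_fst_assoc, MonObj.mul_comp, ha, MonObj.comp_one,
      _root_.mul_one]
  · simp only [deck, Category.assoc, whiskerRight_snd, lift_snd]

theorem deck_one : deck (X := X) Ω 1 = 𝟙 _ := by
  refine CartesianMonoidalCategory.hom_ext _ _ ?_ ?_
  · simp only [deck, lift_fst, MonObj.comp_one, _root_.mul_one, Category.id_comp]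
  · simp only [deck, lift_snd, Category.id_comp]

theorem deck_mul (a b : SGA7.pt (K := k) Ω ⟶ X) : deck Ω (a * b) = deck Ω b ≫ deck Ω a := by
  refine CartesianMonoidalCategory.hom_ext _ _ ?_ ?_
  · simp only [deck, Category.assoc, lift_fst, MonObj.comp_mul, lift_snd_assoc]
    rw [_root_.mul_assoc, _root_.mul_comm (snd X _ ≫ a) (snd X _ ≫ b)]
  · simp only [deck, Category.assoc, lift_snd]

/-- A class on `Y ⊗ Ω` killed by the isogeny. -/
abbrev Killed : Type _ :=
  {c : PicLoc.PicSet (Y ⊗ SGA7.pt (K := k) Ω).left // pb (p ▷ SGA7.pt (K := k) Ω) c = 1}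

theorem card_killed_le [Finite (kerPts p Ω)] :
    Finite (Killed p Ω) ∧ Nat.card (Killed p Ω) ≤ Nat.card (kerPts p Ω) := by
  let P := SGA7.pt (K := k) Ω
  let F := (p ▷ P).left
  let s : (X ⊗ P).left ⟶ Spec (CommRingCat.of Ω) := (snd X P).left
  haveI : Smooth X.hom := @smooth_of_grpObj k _ _ X.hom _ (show GrpObj (Over.mk X.hom) from ‹GrpObj X›) _
  haveI : IsProper s := inferInstanceAs (IsProper (pullback.snd X.hom P.hom))
  haveI : Smooth s := inferInstanceAs (Smooth (pullback.snd X.hom P.hom))
  haveI : GeometricallyIntegral s := inferInstanceAs (GeometricallyIntegral (pullback.snd X.hom P.hom))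
  haveI : IsFinite F := MorphismProperty.of_isPullback (GITQuot.isPullback_whiskerRight p P).flip inferInstance
  haveI : Etale F := MorphismProperty.of_isPullback (GITQuot.isPullback_whiskerRight p P).flip inferInstance
  haveI : Surjective F := MorphismProperty.of_isPullback (GITQuot.isPullback_whiskerRight p P).flip inferInstance
  haveI : GeometricallyConnected s := ⟨fun K _ y Z fst snd h => by
    haveI := GeometricallyIntegral.geometrically_isIntegral (f := s) y fst snd h
    infer_instance⟩
  haveI : GeometricallyReduced s := AbRigid.geometricallyReduced_of_smooth s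
  haveI : IsIntegral (X ⊗ P).left := GeometricallyIntegral.isIntegral_of_subsingleton s
  haveI : Etale (pullback.fst F F) := MorphismProperty.pullback_fst _ _ inferInstance
  haveI : IsReduced (pullback F F) := MidExact25.isReduced_of_etale (pullback.fst F F)
  haveI : LocallyOfFiniteType (pullback.fst F F ≫ s) := inferInstance
  haveI : JacobsonSpace (pullback F F : Scheme.{u}) := LocallyOfFiniteType.jacobsonSpace (pullback.fst F F ≫ s)
  have hb : Function.Bijective s.appTop := AbDual21.bijective_appTop s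
  have hfix : ∀ (a : kerPts p Ω) (f : Γ((X ⊗ P).left, ⊤)), (deck Ω a.1).left.appTop f = f := fun a f => by
    obtain ⟨r, rfl⟩ := hb.2 f
    show ((deck Ω a.1).left.appTop) ((snd X P).left.appTop r) = _
    rw [← CommRingCat.comp_apply, ← Scheme.Hom.comp_appTop, ← Over.comp_left, deck, lift_snd]
    rfl
  have hτ : ∀ a : kerPts p Ω, (deck Ω a.1).left ≫ F = F := fun a => by
    rw [← Over.comp_left, deck_whisker p Ω a.2]
  have hcover : ∀ z : (pullback F F : Scheme.{u}), IsClosed ({z} : Set (pullback F F : Scheme.{u})) →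
      ∃ (a : kerPts p Ω) (x : (X ⊗ P).left),
        pullback.lift (f := F) (g := F) (𝟙 _) (deck Ω a.1).left (by rw [hτ, Category.id_comp]) x = z := fun z hz => by
    let ζ := pointOfClosedPoint (pullback.fst F F ≫ s) z hz
    have hζ : ζ ≫ pullback.fst F F ≫ s = 𝟙 _ := pointOfClosedPoint_comp _ z hz
    have w1 : (ζ ≫ pullback.fst F F) ≫ (X ⊗ P).hom = P.hom := by
      rw [← Over.w (snd X P), ← Category.assoc, Category.assoc ζ, hζ, Category.id_comp]
    have hs : ∀ {W : Scheme.{u}} (v : W ⟶ (X ⊗ P).left), v ≫ F ≫ (snd Y P).left = v ≫ s := fun v => by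
      rw [← Over.comp_left, whiskerRight_snd]
    have hζ2 : (ζ ≫ pullback.snd F F) ≫ s = 𝟙 _ := by
      rw [← hs, Category.assoc, ← pullback.condition_assoc, ← Category.assoc, hs, Category.assoc, hζ]
    have w2 : (ζ ≫ pullback.snd F F) ≫ (X ⊗ P).hom = P.hom := by
      rw [← Over.w (snd X P), ← Category.assoc, hζ2, Category.id_comp]
    let f : P ⟶ X ⊗ P := Over.homMk (ζ ≫ pullback.fst F F) w1
    let g : P ⟶ X ⊗ P := Over.homMk (ζ ≫ pullback.snd F F) w2
    have hfs : f ≫ snd X P = 𝟙 P := by
      refine Over.OverMorphism.ext ?_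
      show (ζ ≫ pullback.fst F F) ≫ s = _
      rw [Category.assoc, hζ]
      rfl
    have hgs : g ≫ snd X P = 𝟙 P := by
      refine Over.OverMorphism.ext ?_
      exact hζ2
    have hfg : f ≫ (p ▷ P) = g ≫ (p ▷ P) := by
      refine Over.OverMorphism.ext ?_
      show (ζ ≫ pullback.fst F F) ≫ F = (ζ ≫ pullback.snd F F) ≫ F
      rw [Category.assoc, Category.assoc, pullback.condition]
    have ha : ((f ≫ fst X P)⁻¹ * (g ≫ fst X P)) ≫ p = 1 := by
      have e := congrArg (· ≫ fst Y P) hfg
      simp only [Category.assoc, whiskerRight_fst] at e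
      rw [MonObj.mul_comp, GrpObj.inv_comp, Category.assoc, Category.assoc, e, inv_mul_cancel]
    refine ⟨⟨_, ha⟩, (ζ ≫ pullback.fst F F) (IsLocalRing.closedPoint Ω), ?_⟩
    have hg : f ≫ deck Ω ((f ≫ fst X P)⁻¹ * (g ≫ fst X P)) = g := by
      refine CartesianMonoidalCategory.hom_ext _ _ ?_ ?_
      · rw [Category.assoc, deck, lift_fst, MonObj.comp_mul, ← Category.assoc, hfs, Category.id_comp,
          mul_inv_cancel_left]
      · rw [Category.assoc, deck, lift_snd, hfs, hgs]
    have h2 : (ζ ≫ pullback.fst F F) ≫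
        pullback.lift (f := F) (g := F) (𝟙 _) (deck Ω ((f ≫ fst X P)⁻¹ * (g ≫ fst X P))).left
          (by rw [hτ ⟨_, ha⟩, Category.id_comp]) = ζ := by
      apply pullback.hom_ext
      · rw [Category.assoc, pullback.lift_fst, Category.comp_id]
      · rw [Category.assoc, pullback.lift_snd]
        exact congrArg (fun e => CommaMorphism.left e) hg
    rw [← Scheme.Hom.comp_apply, h2]
    exact pointOfClosedPoint_apply _ z hz _
  let M : Killed p Ω → (Y ⊗ P).left.Modules := fun c => (PicGrp.exists_eq_cls c.1).choose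
  have hM : ∀ c, ∃ h : PicF.IsInvertible (M c), c.1 = PicGrp.cls (M c) h := fun c => by
    obtain ⟨h, e⟩ := (PicGrp.exists_eq_cls c.1).choose_spec
    exact ⟨h, e⟩
  haveI : IsDomain Γ((X ⊗ P).left, ⊤) := inferInstance
  refine card_le_of_killed F (fun a : kerPts p Ω => (deck Ω a.1).left) hτ hcover ?_ (fun a b => ?_) hfix (S := Killed p Ω) M
    (fun c => (hM c).choose) (fun c => ?_) fun c d h => ?_
  · show (deck Ω (1 : SGA7.pt (K := k) Ω ⟶ X)).left = _
    rw [deck_one]
    rfl
  · show (deck Ω (a.1 * b.1)).left = _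
    rw [deck_mul, Over.comp_left]
  · obtain ⟨hL, e⟩ := hM c
    have h := c.2
    rw [e, ← isTriv_iff _ hL] at h
    exact h
  · obtain ⟨hL, e⟩ := hM c
    obtain ⟨hL', e'⟩ := hM d
    exact Subtype.ext (by rw [e, e', PicGrp.cls_eq_cls_iff]; exact h)

end Groth.Agent.TateFin22

end
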