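import Groth.Agent.Lib.TateTors22.TorsStruct
import Groth.Agent.Lib.TateTors22.SepDeg
import Groth.Agent.Lib.MumVan22.IsogEuler
import Groth.Agent.Lib.AbRigid.Isogeny
import Groth.Agent.Lib.Index22.Pair
import Groth.Prelude.Def_SGA7a

/-!
# Homomorphisms invertible up to an integer prime to the characteristic
-/

universe u

open CategoryTheory Limits MonoidalCategory CartesianMonoidalCategory AlgebraicGeometry
open scoped MonObj GrpObj

set_option linter.style.haveILetI false
set_option linter.unusedSectionVars false
set_option backward.isDefEq.respectTransparency false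

noncomputable section

namespace Groth.Agent.TateFin22

variable {k : Type u} [Field k] {A B : Over (Spec (CommRingCat.of k))}
  [GrpObj A] [IsCommMonObj A] [IsProper A.hom] [GeometricallyIntegral A.hom]
  [GrpObj B] [IsCommMonObj B] [IsProper B.hom] [GeometricallyIntegral B.hom]
  (h : A ⟶ B) [IsMonHom h] (w : B ⟶ A) {m : ℕ}

theorem isogeny_props (hm : (m : k) ≠ 0) (h₁ : h ≫ w = 𝟙 A ^ m) (h₂ : w ≫ h = 𝟙 B ^ m) :
    IsFinite h.left ∧ Etale h.left ∧ Surjective h.left ∧ Flat h.left := by
  obtain ⟨hfA, heA, -⟩ := TateTors22.mul_props (A := A) hm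
  obtain ⟨-, -, hsB⟩ := TateTors22.mul_props (A := B) hm
  haveI : IsFinite (h.left ≫ w.left) := by rw [← Over.comp_left, h₁]; exact hfA
  haveI : Etale (h.left ≫ w.left) := by rw [← Over.comp_left, h₁]; exact heA
  haveI : Surjective (w.left ≫ h.left) := by rw [← Over.comp_left, h₂]; exact hsB
  haveI : IsSeparated (w.left ≫ A.hom) := by rw [Over.w w]; infer_instance
  haveI : IsSeparated w.left := IsSeparated.of_comp w.left A.hom
  haveI : IsFinite h.left := IsFinite.of_comp h.left w.left
  haveI : Surjective h.left := Surjective.of_comp w.left h.left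
  haveI : IsIntegral B.left := GeometricallyIntegral.isIntegral_of_subsingleton B.hom
  haveI : Flat h.left := AbRigid.flat_of_surjective A B h
  haveI : FormallyUnramified h.left := FormallyUnramified.of_comp h.left w.left
  haveI : IsLocallyNoetherian B.left := LocallyOfFiniteType.isLocallyNoetherian B.hom
  haveI : LocallyOfFinitePresentation h.left := {
    finitePresentation_appLE := fun {U} hU {V} hV le =>
      haveI := IsLocallyNoetherian.component_noetherian (X := B.left) ⟨U, hU⟩
      RingHom.FinitePresentation.of_finiteType.mp (h.left.finiteType_appLE hU hV le) }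
  exact ⟨inferInstance, Etale.of_formallyUnramified_of_flat h.left, inferInstance, inferInstance⟩

/-- The rank of a finite étale homomorphism is the number of geometric points of its kernel. -/
theorem finrank_eq_natCard [IsFinite h.left] [Etale h.left] (K : Type u) [Field K] [Algebra k K] [IsAlgClosed K]
    (y : B.left) : h.left.finrank y = Nat.card {x : SGA7.pt (K := k) K ⟶ A // x ≫ h = 1} := by
  let N : Over (Spec (CommRingCat.of k)) := Over.mk (pullback.snd h.left η[B].left)
  haveI : IsFinite N.hom := inferInstanceAs (IsFinite (pullback.snd h.left η[B].left))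
  haveI : Etale N.hom := inferInstanceAs (Etale (pullback.snd h.left η[B].left))
  let i : N ⟶ A := Over.homMk (pullback.fst h.left η[B].left) (by
    show pullback.fst h.left η[B].left ≫ A.hom = pullback.snd h.left η[B].left
    rw [← Over.w h, pullback.condition_assoc, Over.w η[B]]
    exact Category.comp_id _)
  let e : {x : SGA7.pt (K := k) K ⟶ A // x ≫ h = 1} ≃ (SGA7.pt (K := k) K ⟶ N) :=
    { toFun := fun x => Over.homMk (pullback.lift x.1.left (Spec.map (CommRingCat.ofHom (algebraMap k K))) (by
          have := congrArg (fun a : SGA7.pt (K := k) K ⟶ B => a.left) x.2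
          simp only [Over.comp_left] at this
          rw [this, Hom.one_def, Over.comp_left]
          rfl)) (pullback.lift_snd _ _ _)
      invFun := fun y => ⟨y ≫ i, by
        apply Over.OverMorphism.ext
        rw [Hom.one_def, Over.comp_left, Over.comp_left, Over.comp_left, Category.assoc]
        show y.left ≫ pullback.fst h.left η[B].left ≫ h.left = _
        rw [pullback.condition, ← Category.assoc, show y.left ≫ pullback.snd h.left η[B].left =
          (SGA7.pt (K := k) K).hom from Over.w y]
        rfl⟩
      left_inv := fun x => Subtype.ext (by apply Over.OverMorphism.ext; exact pullback.lift_fst _ _ _)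
      right_inv := fun y => by
        apply Over.OverMorphism.ext
        exact pullback.hom_ext (pullback.lift_fst _ _ _) ((pullback.lift_snd _ _ _).trans (Over.w y).symm) }
  haveI : IsIntegral B.left := GeometricallyIntegral.isIntegral_of_subsingleton B.hom
  rw [Nat.card_congr e, show (SGA7.pt (K := k) K ⟶ N) = (Over.mk (Spec.map (CommRingCat.ofHom (algebraMap k K))) ⟶ N)
    from rfl, AVDegree22.card_points K N]
  show _ = (pullback.snd h.left η[B].left).finrank _
  rw [Scheme.Hom.finrank_pullback_snd]
  exact (Scheme.Hom.isLocallyConstant_finrank h.left).apply_eq_of_preconnectedSpace _ _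

/-- The Euler characteristic is multiplied by the number of points of the kernel. -/
theorem euler_pullback [IsFinite h.left] [Etale h.left] (K : Type u) [Field K] [Algebra k K] [IsAlgClosed K]
    {F : B.left.Modules} (hF : Coh.IsCoh F) :
    @Curv2.euler k _ A.left ⟨A.hom⟩ ((Scheme.Modules.pullback h.left).obj F) =
      (Nat.card {x : SGA7.pt (K := k) K ⟶ A // x ≫ h = 1} : ℤ) * @Curv2.euler k _ B.left ⟨B.hom⟩ F :=
  IsogEuler22.euler_pullback h _ (finrank_eq_natCard h K) hF

theorem dim_eq (hm : (m : k) ≠ 0) [IsMonHom w] (h₁ : h ≫ w = 𝟙 A ^ m) (h₂ : w ≫ h = 𝟙 B ^ m) :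
    topologicalKrullDim A.left = topologicalKrullDim B.left := by
  haveI := (isogeny_props h w hm h₁ h₂).1
  haveI := (isogeny_props w h hm h₂ h₁).1
  exact le_antisymm (Index22.dim_le_of_isFinite h.left) (Index22.dim_le_of_isFinite w.left)

/-- The number of torsion points. -/
theorem natCard_tors (K : Type u) [Field K] [Algebra k K] [IsAlgClosed K] {g : ℕ}
    (hg : topologicalKrullDim A.left = g) (hm : (m : k) ≠ 0) :
    Nat.card {x : SGA7.pt (K := k) K ⟶ A // x ^ m = 1} = m ^ (2 * g) := by
  obtain ⟨e⟩ := TateTors22.nonempty_torsPts_mulEquiv (A := A) K hg hm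
  show Nat.card (AbDual.torsPts A m (SGA7.pt (K := k) K)) = _
  rw [Nat.card_congr e.toEquiv, show Nat.card (Multiplicative (Fin (2 * g) → ZMod m)) = Nat.card (Fin (2 * g) → ZMod m)
    from rfl, Nat.card_fun, Nat.card_zmod, Nat.card_fin]

end Groth.Agent.TateFin22

end
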