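import Groth.Agent.Lib.TateFin22.Bilin
import Groth.Agent.Lib.TateFin22.CharPoint
import Groth.Agent.Lib.TateFin22.Degree
import Groth.Agent.Lib.TateTors22.GenField
import Mathlib.GroupTheory.Index

/-!
# Many geometric points on which a pulled back polarisation is trivial
-/

universe u

open CategoryTheory Limits MonoidalCategory CartesianMonoidalCategory AlgebraicGeometry
open scoped MonObj GrpObj

set_option linter.style.haveILetI false
set_option linter.unusedSectionVars false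
set_option backward.isDefEq.respectTransparency false

noncomputable section

namespace Groth.Agent.TateFin22

open Groth.Agent.AlgEquiv22

noncomputable local instance instLawCT (Y : Scheme.{u}) : PicGrp.Law Y := M2.law Y

variable {k : Type u} [Field k]

/-- Composition with a homomorphism. -/
def postc {T A B : Over (Spec (CommRingCat.of k))} [GrpObj A] [GrpObj B] (φ : A ⟶ B) [IsMonHom φ] :
    (T ⟶ A) →* (T ⟶ B) where
  toFun a := a ≫ φ
  map_one' := MonObj.one_comp φ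
  map_mul' a b := MonObj.mul_comp a b φ

theorem postc_apply {T A B : Over (Spec (CommRingCat.of k))} [GrpObj A] [GrpObj B] (φ : A ⟶ B) [IsMonHom φ]
    (a : T ⟶ A) : postc φ a = a ≫ φ := rfl

theorem natCard_eq_ker_mul_range {G H : Type*} [Group G] [Group H] (f : G →* H) :
    Nat.card G = Nat.card f.ker * Nat.card f.range := by
  rw [Subgroup.card_eq_card_quotient_mul_card_subgroup f.ker, mul_comm,
    Nat.card_congr (QuotientGroup.quotientKerEquivRange f).toEquiv]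

variable {X Y : Over (Spec (CommRingCat.of k))}
  [GrpObj X] [IsCommMonObj X] [IsProper X.hom] [GeometricallyIntegral X.hom]
  [GrpObj Y] [IsCommMonObj Y] [IsProper Y.hom] [GeometricallyIntegral Y.hom]
  (p : X ⟶ Y) [IsMonHom p] (v : Y ⟶ X) [IsMonHom v] {N : ℕ}
  (hpv : p ≫ v = 𝟙 X ^ N) (hvp : v ≫ p = 𝟙 Y ^ N) (cX : PicLoc.PicSet X.left)
  (Ω : Type u) [Field Ω] [Algebra k Ω]

/-- Geometric points near which the pulled back class is translation invariant. -/
def kPts (N : ℕ) : Subgroup (SGA7.pt (K := k) Ω ⟶ Y) :=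
  ((postc v).comp (powMonoidHom N)).ker ⊓
    ((blHom (pb v cX) (Y ⊗ SGA7.pt (K := k) Ω) (fst Y _)).comp
      (MonoidHom.mk' (fun y : SGA7.pt (K := k) Ω ⟶ Y => snd Y _ ≫ y) fun a b => MonObj.comp_mul _ a b)).ker

theorem mem_kPts {y : SGA7.pt (K := k) Ω ⟶ Y} : y ∈ kPts v cX Ω N ↔
    (y ^ N) ≫ v = 1 ∧ bl (pb v cX) (fst Y _) (snd Y _ ≫ y) = 1 := Iff.rfl

include hvp in
theorem pow_eq_one {y : SGA7.pt (K := k) Ω ⟶ Y} (hy : y ∈ kPts v cX Ω N) : y ^ (N * N) = 1 := by
  rw [pow_mul, ← TateTors22.comp_pow_id (y ^ N) N, ← hvp, ← Category.assoc, ((mem_kPts v cX Ω).1 hy).1,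
    MonObj.one_comp]

theorem galAct_mem (τ : Ω ≃ₐ[k] Ω) {y : SGA7.pt (K := k) Ω ⟶ Y} (hy : y ∈ kPts v cX Ω N) :
    SGA7.galAct τ y ∈ kPts v cX Ω N := by
  obtain ⟨h1, h2⟩ := (mem_kPts v cX Ω).1 hy
  refine (mem_kPts v cX Ω).2 ⟨?_, ?_⟩
  · rw [SGA7.galAct, ← MonObj.comp_pow, Category.assoc, h1, MonObj.comp_one]
  · have h := congrArg (pb (Y ◁ SGA7.specAut τ)) h2
    rw [pb_bl, whiskerLeft_fst, whiskerLeft_snd_assoc, map_one] at h
    exact h

variable [IsAlgClosed Ω]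

include hpv hvp in
theorem card_ker_mul (hN : (N : k) ≠ 0) {g : ℕ} (hg : topologicalKrullDim X.left = g) :
    Nat.card (kerPts p Ω) * Nat.card (kerPts v Ω) = N ^ (2 * g) := by
  let f : AbDual.torsPts X N (SGA7.pt (K := k) Ω) →* kerPts v Ω :=
    ((postc p).comp (AbDual.torsPts X N (SGA7.pt (K := k) Ω)).subtype).codRestrict (kerPts v Ω) fun x => by
      show (x.1 ≫ p) ≫ v = 1
      rw [Category.assoc, hpv, TateTors22.comp_pow_id]
      exact x.2
  have hf : Function.Surjective f := fun y => by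
    obtain ⟨z, hz⟩ := TateTors22.exists_pow_eq_ext Ω (A := Y) hN y.1
    have hz' : (z ≫ v) ≫ p = y.1 := by rw [Category.assoc, hvp, TateTors22.comp_pow_id, hz]
    refine ⟨⟨z ≫ v, ?_⟩, Subtype.ext hz'⟩
    show (z ≫ v) ^ N = 1
    rw [← TateTors22.comp_pow_id, ← hpv, ← Category.assoc, hz']
    exact y.2
  rw [← natCard_tors Ω hg hN, show Nat.card {x : SGA7.pt (K := k) Ω ⟶ X // x ^ N = 1} =
    Nat.card (AbDual.torsPts X N (SGA7.pt (K := k) Ω)) from rfl, natCard_eq_ker_mul_range f,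
    MonoidHom.range_eq_top.2 hf, Subgroup.card_top]
  refine congrArg (· * _) (Nat.card_congr ?_)
  refine ⟨fun a => ⟨⟨a.1, ?_⟩, Subtype.ext a.2⟩, fun a => ⟨a.1.1, congrArg Subtype.val a.2⟩, fun a => rfl,
    fun a => rfl⟩
  show a.1 ^ N = 1
  rw [← TateTors22.comp_pow_id, ← hpv, ← Category.assoc, a.2, MonObj.one_comp]

include hpv hvp in
/-- The square of the degree of `v` bounds the number of these points from below. -/
theorem sq_card_le (hN : (N : k) ≠ 0) {g : ℕ} (hg : topologicalKrullDim X.left = g) :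
    Nat.card (kerPts v Ω) ^ 2 ≤ Nat.card (kPts v cX Ω N) := by
  obtain ⟨hpf, hpe, hps, -⟩ := isogeny_props p v hN hpv hvp
  haveI := hpf; haveI := hpe; haveI := hps
  have hmul := card_ker_mul p v hpv hvp Ω hN hg
  have hpos : 0 < N ^ (2 * g) := Nat.pow_pos (Nat.pos_of_ne_zero fun h => hN (by rw [h, Nat.cast_zero]))
  have hp0 : 0 < Nat.card (kerPts p Ω) := Nat.pos_of_mul_pos_right (hmul ▸ hpos)
  haveI : Finite (kerPts p Ω) := Nat.finite_of_card_ne_zero hp0.ne'
  haveI : Finite (kerPts v Ω) := Nat.finite_of_card_ne_zero (Nat.pos_of_mul_pos_left (hmul ▸ hpos)).ne'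
  let T : Subgroup (SGA7.pt (K := k) Ω ⟶ Y) := ((postc v).comp (powMonoidHom N)).ker
  have hT : ∀ {y}, y ∈ T ↔ (y ^ N) ≫ v = 1 := Iff.rfl
  let φ : T →* AbDual.torsPts X N (SGA7.pt (K := k) Ω) :=
    ((postc v).comp T.subtype).codRestrict _ fun y => by
      show (y.1 ≫ v) ^ N = 1
      rw [← TateTors22.map_pow]
      exact y.2
  have hφ : Function.Surjective φ := fun x => by
    obtain ⟨z, hz⟩ := TateTors22.exists_pow_eq_ext Ω (A := X) hN x.1
    have hz' : (z ≫ p) ≫ v = x.1 := by rw [Category.assoc, hpv, TateTors22.comp_pow_id, hz]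
    refine ⟨⟨z ≫ p, ?_⟩, Subtype.ext hz'⟩
    rw [hT, TateTors22.map_pow, hz']
    exact x.2
  have hTc : Nat.card T = Nat.card (kerPts v Ω) * N ^ (2 * g) := by
    rw [natCard_eq_ker_mul_range φ, MonoidHom.range_eq_top.2 hφ, Subgroup.card_top,
      show Nat.card (AbDual.torsPts X N (SGA7.pt (K := k) Ω)) = _ from natCard_tors Ω hg hN]
    refine congrArg (· * _) (Nat.card_congr ?_)
    exact ⟨fun a => ⟨a.1.1, congrArg Subtype.val a.2⟩, fun a => ⟨⟨a.1, show (a.1 ^ N) ≫ v = 1 by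
      rw [TateTors22.map_pow, show a.1 ≫ v = 1 from a.2, one_pow]⟩, Subtype.ext a.2⟩, fun a => rfl, fun a => rfl⟩
  let ψ : T →* PicLoc.PicSet (Y ⊗ SGA7.pt (K := k) Ω).left :=
    ((blHom (pb v cX) (Y ⊗ SGA7.pt (K := k) Ω) (fst Y _)).comp
      (MonoidHom.mk' (fun y : SGA7.pt (K := k) Ω ⟶ Y => snd Y _ ≫ y) fun a b => MonObj.comp_mul _ a b)).comp T.subtype
  obtain ⟨hkf, hkc⟩ := card_killed_le p Ω
  haveI := hkf
  have hψ : ∀ y : T, pb (p ▷ SGA7.pt (K := k) Ω) (ψ y) = 1 := fun y => by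
    show pb _ (bl (pb v cX) (fst Y _) (snd Y _ ≫ y.1)) = 1
    rw [pb_bl, whiskerRight_fst, whiskerRight_snd_assoc, bl_hom, Category.assoc, hpv, TateTors22.comp_pow_id,
      Category.assoc]
    calc bl cX ((fst X (SGA7.pt (K := k) Ω)) ^ N) (snd X _ ≫ y.1 ≫ v)
        = bl cX (fst X _) (snd X _ ≫ y.1 ≫ v) ^ N :=
          congrArg (fun f => f (snd X _ ≫ y.1 ≫ v)) (map_pow (blHom cX _) (fst X (SGA7.pt (K := k) Ω)) N)
      _ = bl cX (fst X _) ((snd X _ ≫ y.1 ≫ v) ^ N) := (map_pow (blHom cX _ (fst X _)) _ N).symm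
      _ = 1 := by
          rw [← MonObj.comp_pow, ← TateTors22.map_pow, show (y.1 ^ N) ≫ v = 1 from y.2, MonObj.comp_one]
          exact map_one (blHom cX _ (fst X _))
  have hrange : Nat.card ψ.range ≤ Nat.card (kerPts p Ω) := by
    refine le_trans (Nat.card_le_card_of_injective
      (fun z => (⟨z.1, by obtain ⟨y, hy⟩ := z.2; rw [← hy]; exact hψ y⟩ : Killed p Ω)) fun a b h => ?_) hkc
    exact Subtype.ext (congrArg (fun w : Killed p Ω => w.1) h)
  have hker : Nat.card ψ.ker = Nat.card (kPts v cX Ω N) :=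
    Nat.card_congr ⟨fun a => ⟨a.1.1, a.1.2, a.2⟩, fun a => ⟨⟨a.1, a.2.1⟩, a.2.2⟩, fun a => rfl, fun a => rfl⟩
  have key : Nat.card (kerPts v Ω) ^ 2 * Nat.card (kerPts p Ω) ≤
      Nat.card (kPts v cX Ω N) * Nat.card (kerPts p Ω) :=
    calc Nat.card (kerPts v Ω) ^ 2 * Nat.card (kerPts p Ω) = Nat.card T := by rw [hTc, ← hmul]; ring
      _ = Nat.card ψ.ker * Nat.card ψ.range := natCard_eq_ker_mul_range ψ
      _ ≤ _ := by rw [hker]; exact Nat.mul_le_mul_left _ hrange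
  exact Nat.le_of_mul_le_mul_right key hp0

end Groth.Agent.TateFin22

end
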