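import Groth.Agent.Lib.TateFin22.Bilin
import Groth.Agent.Lib.TateSub22.Quot
import Groth.Agent.Lib.Seesaw13.KL
import Groth.Agent.Lib.CubeField.MumfordTriv
import Groth.Agent.Lib.PicSep22.Main
import Groth.Agent.Lib.MidExact25.Main
import Groth.Agent.S12403

/-!
# Descent of the biadditive class along a quotient by geometric points on which it is trivial
-/

universe u

open CategoryTheory Limits MonoidalCategory CartesianMonoidalCategory AlgebraicGeometry TopologicalSpace
open scoped MonObj GrpObj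

set_option linter.style.haveILetI false
set_option linter.unusedSectionVars false
set_option backward.isDefEq.respectTransparency false

noncomputable section

namespace Groth.Agent.TateFin22

open Groth.Agent.AlgEquiv22

noncomputable local instance instLawDC (Y : Scheme.{u}) : PicGrp.Law Y := M2.law Y

variable {k : Type u} [Field k] {Y : Over (Spec (CommRingCat.of k))} [GrpObj Y] [IsCommMonObj Y]
  [IsProper Y.hom] [GeometricallyIntegral Y.hom] (Ω : Type u) [Field Ω] [Algebra k Ω] [IsAlgClosure k Ω]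

theorem P_eq_pb {L : Y.left.Modules} (hL : PicF.IsInvertible L) {V : Over (Spec (CommRingCat.of k))} (f : V ⟶ Y) :
    CubeField.P L hL f = pb f (PicGrp.cls L hL) := by
  rw [← CubeField.P_id (hL := hL), pb, CubeField.pullHom_P, Category.comp_id]

variable {Q : Over (Spec (CommRingCat.of k))} [GrpObj Q] (q : Y ⟶ Q) (c : PicLoc.PicSet Y.left)
  (hker : ∀ a : SGA7.pt (K := k) Ω ⟶ Y, a ≫ q = 1 →
    bl c (fst Y (SGA7.pt (K := k) Ω)) (snd Y (SGA7.pt (K := k) Ω) ≫ a) = 1)

include hker in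
/-- The form is trivial along a reduced family in the kernel. -/
theorem bl_eq_one_of_comp {W : Over (Spec (CommRingCat.of k))} [LocallyOfFiniteType W.hom] [IsReduced W.left]
    (d : W ⟶ Y) (hd : d ≫ q = 1) : bl c (fst Y W) (snd Y W ≫ d) = 1 := by
  obtain ⟨L, hL, rfl⟩ := PicGrp.exists_eq_cls c
  obtain ⟨K, i, hK⟩ := Seesaw13.exists_isKL (A := Y) hL
  haveI : IsClosedImmersion i.left := hK.closed
  have crit : ∀ {T : Over (Spec (CommRingCat.of k))} (a : T ⟶ Y),
      ThetaGrp.IsMumfordTriv Y L a ↔ bl (PicGrp.cls L hL) (fst Y T) (snd Y T ≫ a) = 1 := fun a => by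
    rw [CubeField.isMumfordTriv_iff hL a, P_eq_pb, P_eq_pb, P_eq_pb, bl, mul_inv_eq_one]
  haveI : JacobsonSpace W.left := LocallyOfFiniteType.jacobsonSpace W.hom
  have hrange : ∀ w : W.left, d.left w ∈ Set.range i.left := by
    have hcl : ∀ w : W.left, IsClosed ({w} : Set W.left) → d.left w ∈ Set.range i.left := fun w hw => by
      obtain ⟨x, rfl⟩ := TateSub22.exists_im Ω hw
      obtain ⟨y, hy⟩ := (hK.univ _ (x ≫ d)).1 ((crit _).2 (hker _ (by rw [Category.assoc, hd, MonObj.comp_one])))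
      exact ⟨TateSub22.im Ω y, by rw [← TateSub22.im_comp, hy]; rfl⟩
    intro w
    by_contra hw
    obtain ⟨w', ⟨hw', -⟩, hc⟩ := nonempty_inter_closedPoints (Z := (d.left ⁻¹' Set.range i.left)ᶜ ∩ Set.univ)
      ⟨w, hw, trivial⟩ (by
        rw [Set.inter_univ]
        exact (i.left.isClosedEmbedding.isClosed_range.preimage d.left.continuous).isOpen_compl.isLocallyClosed)
    exact hw' (hcl w' hc)
  haveI : IsClosedImmersion (pullback.fst d.left i.left) := MorphismProperty.pullback_fst _ _ hK.closed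
  haveI : Surjective (pullback.fst d.left i.left) := ⟨fun w => by
    obtain ⟨z, hz⟩ := hrange w
    obtain ⟨t, ht, -⟩ := Scheme.Pullback.exists_preimage_pullback w z hz.symm
    exact ⟨t, ht⟩⟩
  haveI : IsIso (pullback.fst d.left i.left) := isIso_of_isClosedImmersion_of_surjective _
  have h1 : (inv (pullback.fst d.left i.left) ≫ pullback.snd d.left i.left) ≫ i.left = d.left := by
    rw [Category.assoc, ← pullback.condition, IsIso.inv_hom_id_assoc]
  let y : W ⟶ K := Over.homMk (inv (pullback.fst d.left i.left) ≫ pullback.snd d.left i.left) (by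
    rw [← Over.w i, ← Category.assoc, h1, Over.w d])
  exact (crit d).1 ((hK.univ W d).2 ⟨y, Over.OverMorphism.ext h1⟩)

variable [IsMonHom q] [IsProper Q.hom] [GeometricallyIntegral Q.hom] [IsFinite q.left] [Etale q.left] [Surjective q.left]

include hker in
/-- The form descends along `Y ◁ q`. -/
theorem exists_poincare : ∃ p : PicLoc.PicSet (Y ⊗ Q).left, pb (Y ◁ q) p = bl c (fst Y Y) (snd Y Y) := by
  have hσ : η[Y].left ≫ Y.hom = 𝟙 _ := Over.w η[Y]
  have ha : ∀ (T : Over (Spec (CommRingCat.of k))) (U : T.left.Opens), IsIso ((PicF.XTproj Y.hom T).app U) :=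
    fun T U => PicSep22.isIso_app (pullback.snd Y.hom T.hom) U
  haveI : IsIntegral Y.left := GeometricallyIntegral.isIntegral_of_subsingleton Y.hom
  let U' := AbDual.ovr Q q.left
  let e : U' ⟶ Y := Over.homMk (𝟙 Y.left) (by
    show 𝟙 Y.left ≫ Y.hom = q.left ≫ Q.hom
    rw [Category.id_comp, Over.w q])
  let e' : Y ⟶ U' := Over.homMk (𝟙 Y.left) (by
    show 𝟙 Y.left ≫ q.left ≫ Q.hom = Y.hom
    rw [Category.id_comp, Over.w q])
  have hee : e' ≫ e = 𝟙 Y := Over.OverMorphism.ext (Category.id_comp _)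
  have heq : e ≫ q = AbDual.ovrHom Q q.left := Over.OverMorphism.ext (Category.id_comp _)
  have hXT : ∀ {T T' : Over (Spec (CommRingCat.of k))} (a : T' ⟶ T), PicF.XTmap Y.hom a = (Y ◁ a).left := fun a => by
    apply pullback.hom_ext
    · rw [PicF.XTmap, pullback.lift_fst]
      exact (congrArg CommaMorphism.left (whiskerLeft_fst Y a)).symm
    · rw [PicF.XTmap, pullback.lift_snd]
      exact (congrArg CommaMorphism.left (whiskerLeft_snd Y a)).symm
  have hsec : ∀ T, PicF.secT Y.hom η[Y].left hσ T = (lift (1 : T ⟶ Y) (𝟙 T)).left := fun T => by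
    apply pullback.hom_ext
    · rw [PicF.secT, pullback.lift_fst]
      refine Eq.trans ?_ (congrArg CommaMorphism.left (lift_fst (1 : T ⟶ Y) (𝟙 T))).symm
      rw [Hom.one_def]
      exact (congrArg (fun m => m ≫ η[Y].left) (Over.toUnit_left (R := T))).symm
    · rw [PicF.secT, pullback.lift_snd]
      exact (congrArg CommaMorphism.left (lift_snd (1 : T ⟶ Y) (𝟙 T))).symm
  let b := bl c (fst Y U') (snd Y U' ≫ e)
  let c' : PicF.Rig Y.hom η[Y].left hσ U' := ⟨b.1, b.2, by
    rw [hsec]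
    have h : pb (lift (1 : U' ⟶ Y) (𝟙 U')) b = 1 := by
      rw [pb_bl, lift_fst, bl_one_left]
    exact congrArg Subtype.val h⟩
  let W := AbDual.ovr U' (pullback.fst q.left q.left)
  let b₁ : W ⟶ U' := AbDual.ovrHom U' (pullback.fst q.left q.left)
  let b₂ : W ⟶ U' := Over.homMk (pullback.snd q.left q.left) (pullback.condition_assoc Q.hom).symm
  haveI : LocallyOfFiniteType W.hom := by
    show LocallyOfFiniteType (pullback.fst q.left q.left ≫ q.left ≫ Q.hom)
    infer_instance
  haveI : IsReduced W.left := by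
    haveI : Etale (pullback.fst q.left q.left) := MorphismProperty.pullback_fst _ _ ‹Etale q.left›
    exact MidExact25.isReduced_of_etale (pullback.fst q.left q.left)
  have hb : (b₁ ≫ e) ≫ q = (b₂ ≫ e) ≫ q := by
    rw [Category.assoc, Category.assoc, heq]
    exact Over.OverMorphism.ext pullback.condition
  have hd : bl c (fst Y W) (snd Y W ≫ (b₁ ≫ e)) = bl c (fst Y W) (snd Y W ≫ (b₂ ≫ e)) := by
    have h := bl_eq_one_of_comp Ω q c hker ((b₁ ≫ e) * (b₂ ≫ e)⁻¹) (by
      rw [MonObj.mul_comp, GrpObj.inv_comp, hb, mul_inv_cancel])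
    rw [MonObj.comp_mul, GrpObj.comp_inv] at h
    have h' : blHom c (Y ⊗ W) (fst Y W) ((snd Y W ≫ (b₁ ≫ e)) * (snd Y W ≫ (b₂ ≫ e))⁻¹) = 1 := h
    rw [map_mul, map_inv, mul_inv_eq_one] at h'
    exact h'
  have hglue : ∀ a : W ⟶ U', PicF.pullCl (PicF.XTmap Y.hom a) c'.1 = (bl c (fst Y W) (snd Y W ≫ a ≫ e)).1 :=
    fun a => by
      rw [hXT]
      show (pb (Y ◁ a) b).1 = _
      rw [pb_bl, whiskerLeft_fst, whiskerLeft_snd_assoc]
  obtain ⟨p, hp, -⟩ := Groth.Agent.S12403.result Y.hom η[Y].left hσ ha Q q.left c'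
    ((hglue b₁).trans ((congrArg Subtype.val hd).trans (hglue b₂).symm))
  have hp' : pb (Y ◁ AbDual.ovrHom Q q.left) (⟨p.1, p.2.1⟩ : PicLoc.PicSet (Y ⊗ Q).left) = b :=
    Subtype.ext (by rw [← hp, hXT]; rfl)
  refine ⟨⟨p.1, p.2.1⟩, ?_⟩
  have hq : q = e' ≫ AbDual.ovrHom Q q.left := Over.OverMorphism.ext (Category.id_comp _).symm
  calc pb (Y ◁ q) (⟨p.1, p.2.1⟩ : PicLoc.PicSet (Y ⊗ Q).left)
      = pb (Y ◁ e') (pb (Y ◁ AbDual.ovrHom Q q.left) ⟨p.1, p.2.1⟩) := by
        rw [pb_pb, ← MonoidalCategory.whiskerLeft_comp, ← hq]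
    _ = bl c (fst Y Y) (snd Y Y) := by
        rw [hp']
        show pb (Y ◁ e') (bl c _ _) = _
        rw [pb_bl, whiskerLeft_fst, whiskerLeft_snd_assoc, hee, Category.comp_id]

end Groth.Agent.TateFin22

end
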