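import Groth.Agent.Lib.AlgEquiv22.Ample
import Groth.Agent.Lib.RelAmple18.Twist
import Groth.Agent.Lib.AbRigid.Epi
import Groth.Agent.Lib.DualSeq22.Basic

/-!
# Fourfold products of pairs
-/

universe u

open CategoryTheory Limits MonoidalCategory CartesianMonoidalCategory AlgebraicGeometry
open scoped MonObj GrpObj

set_option linter.style.haveILetI false
set_option linter.unusedSectionVars false
set_option backward.isDefEq.respectTransparency false

noncomputable section

namespace Groth.Agent.TateFin22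

open Groth.Agent.AlgEquiv22

noncomputable local instance instLawP4 (Y : Scheme.{u}) : PicGrp.Law Y := M2.law Y

/-- An ample class. -/
def IsAmpleCl {X : Scheme.{u}} (c : PicLoc.PicSet X) : Prop :=
  ∃ (L : X.Modules) (hL : CohB1.IsAmple L), c = PicGrp.cls L hL.1

section

variable {k : Type u} [Field k] {U V : Over (Spec (CommRingCat.of k))}

theorem IsAmpleCl.pb (f : U ⟶ V) [IsAffineHom f.left] {c : PicLoc.PicSet V.left} (hc : IsAmpleCl c) :
    IsAmpleCl (AlgEquiv22.pb f c) := by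
  obtain ⟨L, hL, rfl⟩ := hc
  refine ⟨_, Amp.isAmple_pullback_of_isAffineHom f.left hL, ?_⟩
  exact PicGrp.pullHom_cls _ _ _ _

theorem IsAmpleCl.mul {X : Scheme.{u}} {c d : PicLoc.PicSet X} (hc : IsAmpleCl c) (hd : IsAmpleCl d) :
    IsAmpleCl (c * d) := by
  obtain ⟨L, hL, rfl⟩ := hc
  obtain ⟨N, hN, rfl⟩ := hd
  refine ⟨CohB1.tensorMod L N, Amp.isAmple_tensor hN.1 hL fun x => ?_, cls_tensor hL.1 hN.1⟩
  obtain ⟨-, -, h⟩ := Amp.isAmple_iff.1 hN
  obtain ⟨n, G, hG, hx, -⟩ := h x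
  exact ⟨n, G, hG, hx⟩

theorem IsAmpleCl.prod {c : PicLoc.PicSet U.left} {d : PicLoc.PicSet V.left} (hc : IsAmpleCl c) (hd : IsAmpleCl d) :
    IsAmpleCl (AlgEquiv22.pb (fst U V) c * AlgEquiv22.pb (snd U V) d) := by
  obtain ⟨L, hL, rfl⟩ := hc
  obtain ⟨N, hN, rfl⟩ := hd
  refine ⟨_, RA.isAmple_pullback_tensor U.hom V.hom hL hN, ?_⟩
  rw [AlgEquiv22.pb, AlgEquiv22.pb, PicGrp.pullHom_cls, PicGrp.pullHom_cls, cls_tensor]
  rfl

/-- Ample classes descend along finite surjective morphisms of proper schemes. -/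
theorem IsAmpleCl.of_pb [IsProper V.hom] (f : U ⟶ V) [IsFinite f.left] [Surjective f.left]
    {c : PicLoc.PicSet V.left} (hc : IsAmpleCl (AlgEquiv22.pb f c)) : IsAmpleCl c := by
  obtain ⟨L, hL, rfl⟩ := PicGrp.exists_eq_cls c
  obtain ⟨N, hN, e⟩ := hc
  rw [AlgEquiv22.pb, PicGrp.pullHom_cls, PicGrp.cls_eq_cls_iff] at e
  exact ⟨L, AmpleFin18.isAmple_of_finite_surjective V.hom hL f.left (Amp.isAmple_of_iso e.some.symm hN), rfl⟩

end

variable {k : Type u} [Field k]

/-- The fourfold product. -/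
abbrev Q4 (W : Over (Spec (CommRingCat.of k))) : Over (Spec (CommRingCat.of k)) := (W ⊗ W) ⊗ (W ⊗ W)

variable {A B T : Over (Spec (CommRingCat.of k))}

/-- The coordinates. -/
def pr (W : Over (Spec (CommRingCat.of k))) : Fin 4 → (Q4 W ⟶ W) :=
  ![fst _ _ ≫ fst _ _, fst _ _ ≫ snd _ _, snd _ _ ≫ fst _ _, snd _ _ ≫ snd _ _]

/-- The first coordinates. -/
def cx (A B : Over (Spec (CommRingCat.of k))) (i : Fin 4) : Q4 (A ⊗ B) ⟶ A := pr _ i ≫ fst A B

/-- The second coordinates. -/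
def cy (A B : Over (Spec (CommRingCat.of k))) (i : Fin 4) : Q4 (A ⊗ B) ⟶ B := pr _ i ≫ snd A B

/-- A point from its coordinates. -/
def mk (a : Fin 4 → (T ⟶ A)) (b : Fin 4 → (T ⟶ B)) : T ⟶ Q4 (A ⊗ B) :=
  lift (lift (lift (a 0) (b 0)) (lift (a 1) (b 1))) (lift (lift (a 2) (b 2)) (lift (a 3) (b 3)))

theorem mk_cx (a : Fin 4 → (T ⟶ A)) (b : Fin 4 → (T ⟶ B)) (i : Fin 4) : mk a b ≫ cx A B i = a i := by
  fin_cases i <;> simp [mk, cx, pr]

theorem mk_cy (a : Fin 4 → (T ⟶ A)) (b : Fin 4 → (T ⟶ B)) (i : Fin 4) : mk a b ≫ cy A B i = b i := by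
  fin_cases i <;> simp [mk, cy, pr]

theorem ext4 {f f' : T ⟶ Q4 (A ⊗ B)} (hx : ∀ i, f ≫ cx A B i = f' ≫ cx A B i)
    (hy : ∀ i, f ≫ cy A B i = f' ≫ cy A B i) : f = f' := by
  apply CartesianMonoidalCategory.hom_ext <;> apply CartesianMonoidalCategory.hom_ext <;>
    apply CartesianMonoidalCategory.hom_ext <;> simp only [Category.assoc]
  · simpa [cx, pr] using hx 0
  · simpa [cy, pr] using hy 0
  · simpa [cx, pr] using hx 1
  · simpa [cy, pr] using hy 1
  · simpa [cx, pr] using hx 2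
  · simpa [cy, pr] using hy 2
  · simpa [cx, pr] using hx 3
  · simpa [cy, pr] using hy 3

section Grp

variable [GrpObj A] [GrpObj B]

instance isMonHom_pr (W : Over (Spec (CommRingCat.of k))) [GrpObj W] (i : Fin 4) : IsMonHom (pr W i) := by
  fin_cases i <;> simp only [pr] <;> dsimp <;> infer_instance

instance isMonHom_cx (i : Fin 4) : IsMonHom (cx A B i) := by unfold cx; infer_instance

instance isMonHom_cy (i : Fin 4) : IsMonHom (cy A B i) := by unfold cy; infer_instance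

theorem isMonHom_mk [GrpObj T] (a : Fin 4 → (T ⟶ A)) (b : Fin 4 → (T ⟶ B)) (ha : ∀ i, IsMonHom (a i))
    (hb : ∀ i, IsMonHom (b i)) : IsMonHom (mk a b) :=
  TorsorSch25.isMonHom_of_points _ fun S x y => ext4
    (fun i => by
      haveI := ha i
      rw [Category.assoc, mk_cx, MonObj.mul_comp _ _ (cx A B i), MonObj.mul_comp _ _ (a i), Category.assoc,
        Category.assoc, mk_cx])
    (fun i => by
      haveI := hb i
      rw [Category.assoc, mk_cy, MonObj.mul_comp _ _ (cy A B i), MonObj.mul_comp _ _ (b i), Category.assoc,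
        Category.assoc, mk_cy])

end Grp

section AV

variable [IsProper A.hom] [GeometricallyIntegral A.hom] [IsProper B.hom] [GeometricallyIntegral B.hom]

theorem isProper_tensor : IsProper (A ⊗ B).hom := inferInstanceAs (IsProper (pullback.fst A.hom B.hom ≫ A.hom))

theorem q4_props : IsProper (Q4 (A ⊗ B)).hom ∧ GeometricallyIntegral (Q4 (A ⊗ B)).hom := by
  haveI := isProper_tensor (A := A) (B := B)
  haveI : GeometricallyIntegral (A ⊗ B).hom := AbRigid.geometricallyIntegral_tensorObj A B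
  haveI := isProper_tensor (A := A ⊗ B) (B := A ⊗ B)
  haveI : GeometricallyIntegral ((A ⊗ B) ⊗ (A ⊗ B)).hom := AbRigid.geometricallyIntegral_tensorObj _ _
  exact ⟨isProper_tensor, AbRigid.geometricallyIntegral_tensorObj _ _⟩

theorem surjective_fst [GrpObj A] [GrpObj B] : Surjective (fst A B).left ∧ Surjective (snd A B).left :=
  ⟨⟨fun z => ⟨(lift (𝟙 A) (1 : A ⟶ B)).left z, by rw [← Scheme.Hom.comp_apply, ← Over.comp_left, lift_fst]; rfl⟩⟩,
    ⟨fun z => ⟨(lift (1 : B ⟶ A) (𝟙 B)).left z, by rw [← Scheme.Hom.comp_apply, ← Over.comp_left, lift_snd]; rfl⟩⟩⟩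

theorem dim_tensor_av [GrpObj A] [GrpObj B] {a b : ℕ} (ha : topologicalKrullDim A.left = a)
    (hb : topologicalKrullDim B.left = b) : topologicalKrullDim (A ⊗ B).left = ((a + b : ℕ) : WithBot ℕ∞) := by
  haveI := isProper_tensor (A := A) (B := B)
  haveI : GeometricallyIntegral (A ⊗ B).hom := AbRigid.geometricallyIntegral_tensorObj A B
  haveI : IsIntegral A.left := GeometricallyIntegral.isIntegral_of_subsingleton A.hom
  haveI : IsIntegral B.left := GeometricallyIntegral.isIntegral_of_subsingleton B.hom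
  haveI : IsIntegral (A ⊗ B).left := GeometricallyIntegral.isIntegral_of_subsingleton (A ⊗ B).hom
  obtain ⟨h1, h2⟩ := surjective_fst (A := A) (B := B)
  exact DualSeq22.dim_tensor A B ha hb

theorem dim_q4 [GrpObj A] [GrpObj B] {g : ℕ} (ha : topologicalKrullDim A.left = g)
    (hb : topologicalKrullDim B.left = g) : topologicalKrullDim (Q4 (A ⊗ B)).left = ((8 * g : ℕ) : WithBot ℕ∞) := by
  haveI := isProper_tensor (A := A) (B := B)
  haveI : GeometricallyIntegral (A ⊗ B).hom := AbRigid.geometricallyIntegral_tensorObj A B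
  have h1 := dim_tensor_av ha hb
  haveI := isProper_tensor (A := A ⊗ B) (B := A ⊗ B)
  haveI : GeometricallyIntegral ((A ⊗ B) ⊗ (A ⊗ B)).hom := AbRigid.geometricallyIntegral_tensorObj _ _
  have h2 := dim_tensor_av h1 h1
  rw [dim_tensor_av h2 h2]
  congr 1
  omega

end AV

end Groth.Agent.TateFin22

end
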