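import Groth.Agent.Lib.TateFin22.Bilin
import Groth.Agent.Lib.TateFin22.Count
import Groth.Agent.Lib.TateFin22.Prod4

/-!
# Zarhin's shear on the fourfold product
-/

universe u

open CategoryTheory Limits MonoidalCategory CartesianMonoidalCategory AlgebraicGeometry
open scoped MonObj GrpObj

set_option linter.style.haveILetI false
set_option linter.unusedSectionVars false
set_option backward.isDefEq.respectTransparency false

noncomputable section

namespace Groth.Agent.TateFin22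

open Groth.Agent.AlgEquiv22

noncomputable local instance instLawSh (Y : Scheme.{u}) : PicGrp.Law Y := M2.law Y

variable {k : Type u} [Field k]

/-- Composition with a fixed first map. -/
def prec {T S A : Over (Spec (CommRingCat.of k))} [GrpObj A] (s : S ⟶ T) : (T ⟶ A) →* (S ⟶ A) :=
  MonoidHom.mk' (fun a => s ≫ a) fun a b => MonObj.comp_mul s a b

theorem prec_apply {T S A : Over (Spec (CommRingCat.of k))} [GrpObj A] (s : S ⟶ T) (a : T ⟶ A) :
    prec s a = s ≫ a := rfl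

theorem comp_zpow' {T S A : Over (Spec (CommRingCat.of k))} [GrpObj A] (s : S ⟶ T) (a : T ⟶ A) (z : ℤ) :
    s ≫ (a ^ z) = (s ≫ a) ^ z := map_zpow (prec s) a z

theorem comp_prod' {T S A : Over (Spec (CommRingCat.of k))} [GrpObj A] [IsCommMonObj A] {J : Type*} (t : Finset J)
    (s : S ⟶ T) (a : J → (T ⟶ A)) : s ≫ (∏ j ∈ t, a j) = ∏ j ∈ t, s ≫ a j := map_prod (prec s) a t

theorem prod_comp' {T A B : Over (Spec (CommRingCat.of k))} [GrpObj A] [IsCommMonObj A] [GrpObj B] [IsCommMonObj B]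
    {J : Type*} (t : Finset J) (a : J → (T ⟶ A)) (φ : A ⟶ B) [IsMonHom φ] :
    (∏ j ∈ t, a j) ≫ φ = ∏ j ∈ t, a j ≫ φ := map_prod (postc φ) a t

theorem zpow_comp' {T A B : Over (Spec (CommRingCat.of k))} [GrpObj A] [GrpObj B] (a : T ⟶ A) (φ : A ⟶ B)
    [IsMonHom φ] (z : ℤ) : (a ^ z) ≫ φ = (a ≫ φ) ^ z := map_zpow (postc φ) a z

theorem pow_comp' {T A B : Over (Spec (CommRingCat.of k))} [GrpObj A] [GrpObj B] (a : T ⟶ A) (φ : A ⟶ B)
    [IsMonHom φ] (n : ℕ) : (a ^ n) ≫ φ = (a ≫ φ) ^ n := map_pow (postc φ) a n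

variable {A B Y Q : Over (Spec (CommRingCat.of k))}
  [GrpObj Y] [IsCommMonObj Y] [GrpObj Q] [IsCommMonObj Q]

/-- The shear from two copies of `Y` to `Y` and a quotient. -/
def shear (q : Y ⟶ Q) (M : Fin 4 → Fin 4 → ℤ) : Q4 (Y ⊗ Y) ⟶ Q4 (Y ⊗ Q) :=
  mk (fun i => cx Y Y i * (∏ j, cy Y Y j ^ M i j)⁻¹) fun j => cy Y Y j ≫ q

/-- The shear back. -/
def shear' (ν : Q ⟶ Y) (M : Fin 4 → Fin 4 → ℤ) (c : ℕ) : Q4 (Y ⊗ Q) ⟶ Q4 (Y ⊗ Y) :=
  mk (fun i => cx Y Q i ^ c * ∏ j, (cy Y Q j ≫ ν) ^ M i j) fun j => cy Y Q j ≫ ν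

variable (q : Y ⟶ Q) [IsMonHom q] (ν : Q ⟶ Y) [IsMonHom ν] (M : Fin 4 → Fin 4 → ℤ) (c : ℕ)

theorem isMonHom_shear : IsMonHom (shear q M) := by
  refine isMonHom_mk _ _ (fun i => TorsorSch25.isMonHom_of_points _ fun S x y => ?_) fun i => inferInstance
  simp only [MonObj.comp_mul, GrpObj.comp_inv, comp_prod', comp_zpow', MonObj.mul_comp, mul_zpow,
    Finset.prod_mul_distrib, mul_inv]
  ac_rfl

theorem isMonHom_shear' : IsMonHom (shear' ν M c) := by
  refine isMonHom_mk _ _ (fun i => TorsorSch25.isMonHom_of_points _ fun S x y => ?_) fun i => inferInstance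
  simp only [MonObj.comp_mul, MonObj.comp_pow, comp_prod', comp_zpow', ← Category.assoc]
  simp only [MonObj.mul_comp, mul_pow, mul_zpow, Finset.prod_mul_distrib]
  ac_rfl

theorem shear_comp (hqν : q ≫ ν = 𝟙 Y ^ c) : shear q M ≫ shear' ν M c = 𝟙 _ ^ c := by
  haveI : ∀ i, IsMonHom (cx Y Y i) := fun i => inferInstance
  have hy : ∀ j, shear q M ≫ cy Y Q j ≫ ν = cy Y Y j ^ c := fun j => by
    rw [← Category.assoc, shear, mk_cy, Category.assoc, hqν, MonObj.comp_pow, Category.comp_id]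
  refine ext4 (fun i => ?_) fun j => ?_
  · rw [Category.assoc, shear', mk_cx, MonObj.comp_mul, MonObj.comp_pow, comp_prod', pow_comp',
      Category.id_comp]
    simp only [comp_zpow', hy]
    rw [shear, mk_cx, mul_pow, inv_pow, ← Finset.prod_pow]
    simp only [← zpow_natCast, ← zpow_mul, mul_comm ((c : ℤ))]
    rw [inv_mul_cancel_right]
  · rw [Category.assoc, shear', mk_cy, hy, pow_comp', Category.id_comp]

theorem shear'_comp (hνq : ν ≫ q = 𝟙 Q ^ c) : shear' ν M c ≫ shear q M = 𝟙 _ ^ c := by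
  have hy : ∀ j, shear' ν M c ≫ cy Y Y j = cy Y Q j ≫ ν := fun j => mk_cy _ _ j
  refine ext4 (fun i => ?_) fun j => ?_
  · rw [Category.assoc, shear, mk_cx, MonObj.comp_mul, GrpObj.comp_inv, comp_prod', pow_comp',
      Category.id_comp]
    simp only [comp_zpow', hy]
    rw [shear', mk_cx, mul_inv_cancel_right]
  · rw [Category.assoc, shear, mk_cy, ← Category.assoc, hy, Category.assoc, hνq, MonObj.comp_pow, Category.comp_id,
      pow_comp', Category.id_comp]

variable [IsProper Y.hom] [GeometricallyIntegral Y.hom] (cY : PicLoc.PicSet Y.left) (p : PicLoc.PicSet (Y ⊗ Q).left)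

/-- The class on the fourfold product. -/
def lz : PicLoc.PicSet (Q4 (Y ⊗ Q)).left :=
  (∏ i, bl cY (cx Y Q i) (cx Y Q i)) * (∏ j, pb (lift (cy Y Q j ≫ ν) (cy Y Q j)) p) *
    ∏ i, ∏ j, pb (lift (cx Y Q i) (cy Y Q j)) p ^ (2 * M i j)

theorem pb_shear_lz (hqν : q ≫ ν = 𝟙 Y ^ c) (hp : pb (Y ◁ q) p = bl cY (fst Y Y) (snd Y Y))
    (hM : ∀ j j', ∑ i, M i j * M i j' = if j = j' then (c : ℤ) - 1 else 0) :
    pb (shear q M) (lz ν M cY p) =
      (∏ i, bl cY (cx Y Y i) (cx Y Y i)) * ∏ j, bl cY (cy Y Y j) (cy Y Y j) := by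
  have key : ∀ {T : Over (Spec (CommRingCat.of k))} (a y : T ⟶ Y), pb (lift a (y ≫ q)) p = bl cY a y := fun a y => by
    rw [show lift a (y ≫ q) = lift a y ≫ Y ◁ q by apply CartesianMonoidalCategory.hom_ext <;> simp, ← pb_pb, hp,
      pb_bl, lift_fst, lift_snd]
  have hx : ∀ i, shear q M ≫ cx Y Q i = cx Y Y i * (∏ j, cy Y Y j ^ M i j)⁻¹ := fun i => mk_cx _ _ i
  have hy : ∀ j, shear q M ≫ cy Y Q j = cy Y Y j ≫ q := fun j => mk_cy _ _ j
  have h2 : ∀ j, pb (shear q M) (pb (lift (cy Y Q j ≫ ν) (cy Y Q j)) p) =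
      blHom cY _ (cy Y Y j) (cy Y Y j) ^ c := fun j => by
    rw [pb_pb, comp_lift, ← Category.assoc, hy, key, Category.assoc, hqν, MonObj.comp_pow, Category.comp_id]
    exact congrArg (fun f => f (cy Y Y j)) (map_pow (blHom cY _) (cy Y Y j) c)
  rw [lz, map_mul, map_mul, map_prod, map_prod, map_prod]
  simp only [map_prod, map_zpow, h2, pb_bl, pb_pb, comp_lift, hx, hy, key]
  exact zarhin_identity (blHom cY _) (fun a b => bl_comm cY a b) M c hM (cx Y Y) (cy Y Y)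

end Groth.Agent.TateFin22

end
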