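import Groth.Agent.Lib.TateSub22.Range
import Groth.Agent.Lib.TateFin22.Shear

/-!
# A Galois stable subspace of the rational Tate module as a sum of images
-/

universe u

open CategoryTheory Limits MonoidalCategory CartesianMonoidalCategory AlgebraicGeometry
open scoped MonObj GrpObj TensorProduct

set_option linter.style.haveILetI false
set_option linter.unusedSectionVars false
set_option maxHeartbeats 1000000
set_option backward.isDefEq.respectTransparency false

noncomputable section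

namespace Groth.Agent.TateFin22

open Groth.Agent.TateSub22

/-- The index set. -/
abbrev R8 := Fin 4 ⊕ Fin 4

variable {k : Type u} [Field k] (Ω : Type u) [Field Ω] [Algebra k Ω] (l : ℕ)

/-- Finitely many isomorphism classes after making the isogenous varieties retracts. -/
def FinHyp (X : Over (Spec (CommRingCat.of k))) [GrpObj X] [IsCommMonObj X] : Prop :=
  ∃ (J : Type u) (_ : Finite J) (F : J → Over (Spec (CommRingCat.of k))),
    ∀ (Y : Over (Spec (CommRingCat.of k))) [GrpObj Y] [IsCommMonObj Y] [IsProper Y.hom] [GeometricallyIntegral Y.hom]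
      (u : X ⟶ Y) [IsMonHom u] (v : Y ⟶ X) [IsMonHom v] (n : ℕ),
      u ≫ v = (𝟙 X) ^ (l ^ n) → v ≫ u = (𝟙 Y) ^ (l ^ n) →
      ∃ (Z : Over (Spec (CommRingCat.of k))) (_ : GrpObj Z) (_ : IsCommMonObj Z) (_ : IsProper Z.hom)
        (_ : GeometricallyIntegral Z.hom) (inc : Y ⟶ Z) (_ : IsMonHom inc) (prj : Z ⟶ Y) (_ : IsMonHom prj)
        (a : R8 → (X ⟶ Z)) (b : R8 → (Z ⟶ X)) (_ : ∀ r, IsMonHom (a r)) (_ : ∀ r, IsMonHom (b r)) (m : ℕ),
        inc ≫ prj = 𝟙 Y ∧ ∏ r, (b r ≫ a r) = (𝟙 Z) ^ (l ^ m) ∧ ∃ i, Nonempty (Z ≅ F i)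

variable [Fact l.Prime] [IsAlgClosure k Ω]
  {X : Over (Spec (CommRingCat.of k))} [GrpObj X] [IsCommMonObj X] [IsProper X.hom] [GeometricallyIntegral X.hom]

theorem co_sum {J : Type*} (t : Finset J) (z : J → AbDual.TateMod X l (SGA7.pt (K := k) Ω)) (n : ℕ) :
    co Ω l n (∑ r ∈ t, z r) = ∏ r ∈ t, co Ω l n (z r) := by
  classical
  induction t using Finset.induction_on with
  | empty => rw [Finset.sum_empty, Finset.prod_empty]; rfl
  | insert i t hi ih => rw [Finset.sum_insert hi, Finset.prod_insert hi, ← ih]; rfl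

/-- A Galois stable submodule is almost a sum of images of endomorphisms. -/
theorem exists_range (hl : (l : k) ≠ 0) (hFin : FinHyp l X)
    [Module.Free ℤ_[l] (AbDual.TateMod X l (SGA7.pt (K := k) Ω))]
    [Module.Finite ℤ_[l] (AbDual.TateMod X l (SGA7.pt (K := k) Ω))]
    (S : Submodule ℤ_[l] (AbDual.TateMod X l (SGA7.pt (K := k) Ω)))
    (hS : ∀ (τ : Ω ≃ₐ[k] Ω), ∀ z ∈ S, ∀ n, ∃ w ∈ S, co Ω l n w = SGA7.galAct τ (co Ω l n z)) :
    ∃ g : R8 → Module.End ℤ_[l] (AbDual.TateMod X l (SGA7.pt (K := k) Ω)),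
      (∀ r, g r ∈ endSpan Ω l X) ∧ (∀ r x, g r x ∈ S) ∧
        ∃ N : ℕ, ∀ w ∈ S, ∃ x : R8 → AbDual.TateMod X l (SGA7.pt (K := k) Ω),
          ∑ r, g r (x r) = (l : ℤ_[l]) ^ N • w := by
  classical
  haveI : IsAlgClosed Ω := IsAlgClosure.isAlgClosed k
  let E := AbDual.TateMod X l (SGA7.pt (K := k) Ω)
  have hln : ∀ n : ℕ, ((l ^ n : ℕ) : k) ≠ 0 := fun n => by rw [Nat.cast_pow]; exact pow_ne_zero _ hl
  have hQ := fun n => exists_quotient Ω (A := X) (hln n) (level Ω l S n)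
    (by rintro _ ⟨z, -, rfl⟩; exact congrArg Additive.toMul (z.2.1 n))
    (by rintro τ _ ⟨z, hz, rfl⟩; exact hS τ z hz n)
  choose Y gY cY pY iY p hp v hv hpv hvp hker hsurj using hQ
  obtain ⟨J, hJ, Fm, hFm⟩ := hFin
  haveI := hJ
  choose Z gZ cZ pZ iZ inc hinc prj hprj a b ha hb m hip hba idx hidx using
    fun n => hFm (Y n) (p n) (v n) n (hpv n) (hvp n)
  obtain ⟨j, hj⟩ := Finite.exists_infinite_fiber idx
  rw [Set.infinite_coe_iff] at hj
  obtain ⟨φ, hφ, hφj⟩ := Filter.extraction_of_frequently_atTop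
    (Filter.frequently_atTop.2 fun a => by
      obtain ⟨b, hb, hab⟩ := hj.exists_gt a
      exact ⟨b, hab.le, hb⟩)
  let N := φ 0
  obtain ⟨eN⟩ := hidx N
  have em := fun i => hidx (φ i)
  let e : ∀ i, Z N ≅ Z (φ i) := fun i => eN ≪≫ eqToIso (by rw [hφj 0, hφj i]) ≪≫ (em i).some.symm
  let cst : ∀ i, (𝟙_ (Over (Spec (CommRingCat.of k))) ⟶ Z (φ i)) := fun i => η[Z N] ≫ (e i).hom
  let e₁ : ∀ i, (Z N ⟶ Z (φ i)) := fun i => (e i).hom * (toUnit _ ≫ cst i)⁻¹
  let e₂ : ∀ i, (Z (φ i) ⟶ Z N) := fun i => (𝟙 _ * (toUnit _ ≫ cst i)) ≫ (e i).inv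
  have hone : ∀ (W : Over (Spec (CommRingCat.of k))) [GrpObj W], η[W] = (1 : 𝟙_ _ ⟶ W) := fun W _ => by
    rw [Hom.one_def, toUnit_unique (toUnit _) (𝟙 _), Category.id_comp]
  have hm₁ : ∀ i, IsMonHom (e₁ i) := fun i => by
    haveI : Smooth (Z N).hom := @smooth_of_grpObj k _ _ (Z N).hom _ (show GrpObj (Over.mk (Z N).hom) from gZ N) _
    refine RatMapAV.isMonHom_of_smooth (Z N) (Z (φ i)) _ ?_
    rw [hone (Z (φ i)), MonObj.comp_mul, GrpObj.comp_inv, ← Category.assoc,
      toUnit_unique (η[Z N] ≫ toUnit (Z N)) (𝟙 _), Category.id_comp, mul_inv_cancel]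
  have hm₂ : ∀ i, IsMonHom (e₂ i) := fun i => by
    haveI : Smooth (Z (φ i)).hom :=
      @smooth_of_grpObj k _ _ (Z (φ i)).hom _ (show GrpObj (Over.mk (Z (φ i)).hom) from gZ (φ i)) _
    refine RatMapAV.isMonHom_of_smooth (Z (φ i)) (Z N) _ ?_
    rw [← Category.assoc, MonObj.comp_mul, Category.comp_id, ← Category.assoc,
      toUnit_unique (η[Z (φ i)] ≫ toUnit (Z (φ i))) (𝟙 _), Category.id_comp, hone (Z (φ i)), _root_.one_mul,
      Category.assoc, Iso.hom_inv_id, Category.comp_id]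
  have h21 : ∀ i, e₂ i ≫ e₁ i = 𝟙 _ := fun i => by
    simp only [e₂, e₁]
    rw [MonObj.comp_mul, Category.assoc, Iso.inv_hom_id, Category.comp_id, GrpObj.comp_inv, comp_toUnit_assoc,
      mul_inv_cancel_right]
  let c : ∀ i, R8 → (X ⟶ Y (φ i)) := fun i r => a N r ≫ e₁ i ≫ prj (φ i)
  have hc : ∀ i r, IsMonHom (c i r) := fun i r => by
    haveI := hm₁ i
    infer_instance
  let f : ℕ → R8 → Module.End ℤ_[l] E := fun i r =>
    haveI := hc i r
    AbDual.tateMapₗ (l := l) (T := SGA7.pt (K := k) Ω) (c i r ≫ v (φ i))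
  let Φ : (R8 → Module.End ℤ_[l] E) →ₗ[ℤ_[l]] Module.End ℤ_[l] (R8 → E) :=
    { toFun := fun g => LinearMap.pi fun _ => ∑ r, g r ∘ₗ LinearMap.proj r
      map_add' := fun g g' => LinearMap.ext fun x => funext fun s => by
        simp only [LinearMap.pi_apply, LinearMap.add_apply, Pi.add_apply, LinearMap.sum_apply, LinearMap.comp_apply,
          LinearMap.proj_apply, Finset.sum_add_distrib]
      map_smul' := fun t g => LinearMap.ext fun x => funext fun s => by
        simp only [LinearMap.pi_apply, LinearMap.smul_apply, Pi.smul_apply, LinearMap.sum_apply, LinearMap.comp_apply,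
          LinearMap.proj_apply, Finset.smul_sum, RingHom.id_apply] }
  have hΦ : ∀ g x s, Φ g x s = ∑ r, g r (x r) := fun g x s => by simp [Φ]
  let diag : E →ₗ[ℤ_[l]] (R8 → E) := LinearMap.pi fun _ => LinearMap.id
  have step1 : ∀ i r x, ∃ w ∈ S, ∃ t : E, f i r x = w + (l : ℤ_[l]) ^ φ i • t := fun i r x => by
    haveI := hc i r
    set y : SGA7.pt (K := k) Ω ⟶ Y (φ i) := co Ω l (φ i) x ≫ c i r with hy
    obtain ⟨x', hx'⟩ := hsurj (φ i) y
    have h1 : co Ω l (φ i) (f i r x) = x' ^ (l ^ φ i) := by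
      show co Ω l (φ i) x ≫ c i r ≫ v (φ i) = _
      rw [← Category.assoc, ← hy, ← hx', Category.assoc, hpv, MonObj.comp_pow, Category.comp_id]
    obtain ⟨w, hw, hwe⟩ : x' ^ (l ^ φ i) ∈ level Ω l S (φ i) := by
      rw [← hker, pow_comp', hx', hy, ← pow_comp',
        show co Ω l (φ i) x ^ (l ^ φ i) = 1 from congrArg Additive.toMul (x.2.1 (φ i)), MonObj.one_comp]
    obtain ⟨t, ht⟩ := exists_smul_of_co_eq_one Ω l (n := φ i) (z := f i r x - w) (by
      rw [show f i r x - w = f i r x + -w from sub_eq_add_neg _ _]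
      show co Ω l (φ i) (f i r x) * (co Ω l (φ i) w)⁻¹ = 1
      rw [h1, hwe, mul_inv_cancel])
    exact ⟨w, hw, t, by rw [← ht, add_sub_cancel]⟩
  obtain ⟨G, hG, hGS, hGw⟩ := exists_limit ((Submodule.pi Set.univ fun _ : R8 => endSpan Ω l X).map Φ) (S.map diag)
    (m N) φ hφ (fun i => Φ (f i))
    (fun i => Submodule.mem_map_of_mem fun r _ => by
      haveI := hc i r
      exact Submodule.subset_span ⟨_, inferInstance, rfl⟩)
    (fun i x => by
      choose w hw t ht using fun r => step1 i r (x r)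
      refine ⟨diag (∑ r, w r), Submodule.mem_map_of_mem (Submodule.sum_mem _ fun r _ => hw r), diag (∑ r, t r), ?_⟩
      funext s
      rw [hΦ, Pi.add_apply, Pi.smul_apply]
      show _ = (∑ r, w r) + (l : ℤ_[l]) ^ φ i • ∑ r, t r
      rw [Finset.smul_sum, ← Finset.sum_add_distrib]
      exact Finset.sum_congr rfl fun r _ => ht r)
    (fun i w' hw' => by
      obtain ⟨w, hw, rfl⟩ := hw'
      haveI := hm₁ i
      haveI := hm₂ i
      let y : AbDual.TateMod (Y (φ i)) l (SGA7.pt (K := k) Ω) :=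
        ⟨fun j => Additive.ofMul (co Ω l (φ i + j) w ≫ p (φ i)),
        ⟨fun j => by
          show Additive.ofMul ((co Ω l (φ i + j) w ≫ p (φ i)) ^ (l ^ j)) = 0
          rw [← Isogeny14.hom_pow_comp, show co Ω l (φ i + j) w ^ (l ^ j) = co Ω l (φ i) w from
            TateTors22.compat_pow (K := Ω) l w (φ i) j, (hker (φ i) _).2 ⟨w, hw, rfl⟩]
          rfl,
        fun j => by
          show Additive.ofMul ((co Ω l (φ i + (j + 1)) w ≫ p (φ i)) ^ l) = _
          rw [← Isogeny14.hom_pow_comp]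
          exact congrArg (fun a : SGA7.pt (K := k) Ω ⟶ X => Additive.ofMul (a ≫ p (φ i)))
            (congrArg Additive.toMul (w.2.2 (φ i + j)))⟩⟩
      refine ⟨fun r => haveI := hb N r
        AbDual.tateMapₗ (l := l) (T := SGA7.pt (K := k) Ω) (inc (φ i) ≫ e₂ i ≫ b N r) y, ?_⟩
      funext s
      rw [hΦ, Pi.smul_apply]
      show _ = (l : ℤ_[l]) ^ m N • w
      refine AbDual.TateMod.ext fun j => ?_
      apply Additive.toMul.injective
      rw [← Nat.cast_pow, Nat.cast_smul_eq_nsmul]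
      change co Ω l j _ = co Ω l j w ^ (l ^ m N)
      rw [co_sum]
      have step : ∀ r, co Ω l j (f i r (haveI := hb N r
          AbDual.tateMapₗ (l := l) (T := SGA7.pt (K := k) Ω) (inc (φ i) ≫ e₂ i ≫ b N r) y)) =
          ((co Ω l (φ i + j) w ≫ p (φ i)) ≫ inc (φ i) ≫ e₂ i ≫ (b N r ≫ a N r)) ≫
            (e₁ i ≫ prj (φ i) ≫ v (φ i)) := fun r => by
        show ((co Ω l (φ i + j) w ≫ p (φ i)) ≫ (inc (φ i) ≫ e₂ i ≫ b N r)) ≫ (c i r ≫ v (φ i)) = _
        simp only [c, Category.assoc]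
      simp only [step]
      rw [← prod_comp', ← comp_prod', ← comp_prod', ← comp_prod', hba]
      simp only [MonObj.comp_pow, Category.comp_id, pow_comp']
      simp only [Category.assoc]
      rw [← Category.assoc (e₂ i), h21, Category.id_comp, ← Category.assoc (inc (φ i)), hip, Category.id_comp,
        hpv, MonObj.comp_pow, Category.comp_id]
      congr 1
      rw [Nat.add_comm (φ i) j]
      exact TateTors22.compat_pow (K := Ω) l w j (φ i))
  obtain ⟨g, hg, rfl⟩ := hG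
  refine ⟨g, fun r => hg r trivial, fun r x => ?_, m N, fun w hw => ?_⟩
  · obtain ⟨s, hs, hse⟩ := hGS (Pi.single r x)
    have h := congrFun hse r
    rw [hΦ, Finset.sum_eq_single r (fun r' _ hr => by rw [Pi.single_eq_of_ne hr, map_zero])
      (fun h => absurd (Finset.mem_univ _) h), Pi.single_eq_same] at h
    exact h ▸ hs
  · obtain ⟨x, hx⟩ := hGw (diag w) (Submodule.mem_map_of_mem hw)
    exact ⟨x, by rw [← hΦ g x (Sum.inl 0), hx]; rfl⟩

end Groth.Agent.TateFin22

end
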