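import Groth.Agent.Lib.TateFin22.Shear
import Groth.Agent.Lib.TateFin22.Descend
import Groth.Agent.Lib.CurveCoh17.Euler
import Groth.Agent.Lib.CubeField.Fin


/-!
# Zarhin's trick without the dual
-/

universe u

open CategoryTheory Limits MonoidalCategory CartesianMonoidalCategory AlgebraicGeometry
open scoped MonObj GrpObj

set_option linter.style.haveILetI false
set_option linter.unusedSectionVars false
set_option maxHeartbeats 1000000
set_option synthInstance.maxHeartbeats 400000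
set_option backward.isDefEq.respectTransparency false

noncomputable section

namespace Groth.Agent.TateFin22

open Groth.Agent.AlgEquiv22

noncomputable local instance instLawZ (Y : Scheme.{u}) : PicGrp.Law Y := M2.law Y

variable {k : Type u} [Field k]

section

variable {A B T : Over (Spec (CommRingCat.of k))} [GrpObj A] [IsCommMonObj A] [GrpObj B] [IsCommMonObj B]

/-- The inclusion of a coordinate. -/
def inx (i : Fin 4) : A ⟶ Q4 (A ⊗ B) := mk (fun j => if j = i then 𝟙 A else 1) fun _ => 1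

/-- The inclusion of a coordinate. -/
def iny (i : Fin 4) : B ⟶ Q4 (A ⊗ B) := mk (fun _ => 1) fun j => if j = i then 𝟙 B else 1

instance isMonHom_inx (i : Fin 4) : IsMonHom (inx (A := A) (B := B) i) :=
  isMonHom_mk _ _ (fun j => by split_ifs <;> [infer_instance; exact isMonHom_one']) fun _ => isMonHom_one'
where
  isMonHom_one' {A B : Over (Spec (CommRingCat.of k))} [GrpObj A] [IsCommMonObj A] [GrpObj B] :
      IsMonHom (1 : B ⟶ A) := TorsorSch25.isMonHom_of_points _ fun S x y => by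
    rw [MonObj.comp_one, MonObj.comp_one, MonObj.comp_one, _root_.mul_one]

instance isMonHom_iny (i : Fin 4) : IsMonHom (iny (A := A) (B := B) i) :=
  isMonHom_mk _ _ (fun _ => isMonHom_inx.isMonHom_one') fun j => by
    split_ifs <;> [infer_instance; exact isMonHom_inx.isMonHom_one']

theorem prod_coord (m : ℕ) [IsCommMonObj (Q4 (A ⊗ B))] :
    (∏ i, (cx A B i ≫ inx i) ^ m) * (∏ i, (cy A B i ≫ iny i) ^ m) = 𝟙 (Q4 (A ⊗ B)) ^ m := by
  rw [Finset.prod_pow, Finset.prod_pow, ← mul_pow]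
  congr 1
  refine ext4 (fun j => ?_) fun j => ?_
  · rw [Category.id_comp, MonObj.mul_comp, prod_comp', prod_comp']
    simp only [Category.assoc, inx, iny, mk_cx, MonObj.comp_one]
    rw [Finset.prod_const_one, _root_.mul_one, Finset.prod_eq_single j
      (fun i _ hij => by rw [if_neg (Ne.symm hij), MonObj.comp_one]) (fun h => absurd (Finset.mem_univ _) h),
      if_pos rfl, Category.comp_id]
  · rw [Category.id_comp, MonObj.mul_comp, prod_comp', prod_comp']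
    simp only [Category.assoc, inx, iny, mk_cy, MonObj.comp_one]
    rw [Finset.prod_const_one, _root_.one_mul, Finset.prod_eq_single j
      (fun i _ hij => by rw [if_neg (Ne.symm hij), MonObj.comp_one]) (fun h => absurd (Finset.mem_univ _) h),
      if_pos rfl, Category.comp_id]

end

theorem isAmpleCl_diag {X : Over (Spec (CommRingCat.of k))} [GrpObj X] {d : PicLoc.PicSet X.left}
    (hd : IsAmpleCl d) :
    IsAmpleCl ((∏ i, pb (cx X X i) d) * ∏ j, pb (cy X X j) d) := by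
  have h := ((hd.prod hd).prod (hd.prod hd)).prod ((hd.prod hd).prod (hd.prod hd))
  convert h using 1
  simp only [Fin.prod_univ_four, map_mul, pb_pb]
  simp only [cx, cy, pr, Category.assoc, Matrix.cons_val_zero, Matrix.cons_val_one, Matrix.cons_val,
    Matrix.head_cons]
  ac_rfl

/-- Coordinates of points. -/
def coordEquiv (T A B : Over (Spec (CommRingCat.of k))) :
    (T ⟶ Q4 (A ⊗ B)) ≃ (Fin 4 → (T ⟶ A)) × (Fin 4 → (T ⟶ B)) where
  toFun x := (fun i => x ≫ cx A B i, fun i => x ≫ cy A B i)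
  invFun a := mk a.1 a.2
  left_inv x := ext4 (fun i => mk_cx _ _ i) fun i => mk_cy _ _ i
  right_inv a := Prod.ext (funext fun i => mk_cx _ _ i) (funext fun i => mk_cy _ _ i)

theorem card_pairs {G : Type*} (p : G → Prop) :
    Nat.card {a : (Fin 4 → G) × (Fin 4 → G) // (∀ i, p (a.1 i)) ∧ ∀ i, p (a.2 i)} =
      Nat.card {g // p g} ^ 8 := by
  rw [Nat.card_congr (show {a : (Fin 4 → G) × (Fin 4 → G) // (∀ i, p (a.1 i)) ∧ ∀ i, p (a.2 i)} ≃
    (Fin 4 → {g // p g}) × (Fin 4 → {g // p g}) from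
    { toFun := fun a => (fun i => ⟨a.1.1 i, a.2.1 i⟩, fun i => ⟨a.1.2 i, a.2.2 i⟩)
      invFun := fun a => ⟨(fun i => (a.1 i).1, fun i => (a.2 i).1), fun i => (a.1 i).2, fun i => (a.2 i).2⟩
      left_inv := fun a => rfl
      right_inv := fun a => rfl }), Nat.card_prod, Nat.card_fun, Nat.card_fin, ← pow_add]

theorem comp_diag_eq_one_iff {T X Y : Over (Spec (CommRingCat.of k))} [GrpObj X] (v : Y ⟶ X)
    (x : T ⟶ Q4 (Y ⊗ Y)) :
    x ≫ mk (fun i => cx Y Y i ≫ v) (fun i => cy Y Y i ≫ v) = 1 ↔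
      (∀ i, (x ≫ cx Y Y i) ≫ v = 1) ∧ ∀ i, (x ≫ cy Y Y i) ≫ v = 1 := by
  constructor
  · intro h
    refine ⟨fun i => ?_, fun i => ?_⟩
    · have h' := congrArg (fun z => z ≫ cx X X i) h
      rw [Category.assoc, mk_cx, MonObj.one_comp, ← Category.assoc] at h'
      exact h'
    · have h' := congrArg (fun z => z ≫ cy X X i) h
      rw [Category.assoc, mk_cy, MonObj.one_comp, ← Category.assoc] at h'
      exact h'
  · rintro ⟨h₁, h₂⟩
    refine ext4 (fun i => ?_) fun i => ?_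
    · rw [Category.assoc, mk_cx, MonObj.one_comp, ← Category.assoc, h₁]
    · rw [Category.assoc, mk_cy, MonObj.one_comp, ← Category.assoc, h₂]

theorem card_ker_diag (Ω : Type u) [Field Ω] [Algebra k Ω] {X Y : Over (Spec (CommRingCat.of k))} [GrpObj X]
    [GrpObj Y] [IsCommMonObj Y] (v : Y ⟶ X) [IsMonHom v] :
    Nat.card {x : SGA7.pt (K := k) Ω ⟶ Q4 (Y ⊗ Y) //
      x ≫ mk (fun i => cx Y Y i ≫ v) (fun i => cy Y Y i ≫ v) = 1} = Nat.card (kerPts v Ω) ^ 8 :=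
  (Nat.card_congr ((coordEquiv _ Y Y).subtypeEquiv fun x => comp_diag_eq_one_iff v x)).trans
    (card_pairs fun y : SGA7.pt (K := k) Ω ⟶ Y => y ≫ v = 1)

theorem card_pow_le_ker_shear (Ω : Type u) [Field Ω] [Algebra k Ω] {Y Q : Over (Spec (CommRingCat.of k))}
    [GrpObj Y] [IsCommMonObj Y] [GrpObj Q] [IsCommMonObj Q] (q : Y ⟶ Q) (M : Fin 4 → Fin 4 → ℤ)
    (D : Subgroup (SGA7.pt (K := k) Ω ⟶ Y)) (hD : ∀ y ∈ D, y ≫ q = 1)
    [Finite {x : SGA7.pt (K := k) Ω ⟶ Q4 (Y ⊗ Y) // x ≫ shear q M = 1}] :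
    Nat.card D ^ 4 ≤ Nat.card {x : SGA7.pt (K := k) Ω ⟶ Q4 (Y ⊗ Y) // x ≫ shear q M = 1} := by
  rw [show Nat.card D ^ 4 = Nat.card (Fin 4 → D) by rw [Nat.card_fun, Nat.card_fin]]
  refine Nat.card_le_card_of_injective (fun a => ⟨mk (fun i => ∏ j, (a j).1 ^ M i j) fun j => (a j).1, ?_⟩)
    fun a a' h => ?_
  · refine ext4 (fun i => ?_) fun j => ?_
    · rw [Category.assoc, shear, mk_cx, MonObj.comp_mul, GrpObj.comp_inv, comp_prod', mk_cx, MonObj.one_comp]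
      simp only [comp_zpow', mk_cy, mul_inv_cancel]
    · rw [Category.assoc, shear, mk_cy, ← Category.assoc, mk_cy, MonObj.one_comp]
      exact hD _ (a j).2
  · refine funext fun j => Subtype.ext ?_
    have h' := congrArg (fun x => x ≫ cy Y Y j) (congrArg Subtype.val h)
    simpa only [mk_cy] using h'

theorem comp_through {X Y Z : Over (Spec (CommRingCat.of k))} [GrpObj Y] [GrpObj Z] (b : Z ⟶ Y) (v : Y ⟶ X) (u : X ⟶ Y)
    (inc : Y ⟶ Z) [IsMonHom inc] {N c : ℕ} (hvu : v ≫ u = 𝟙 Y ^ N) :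
    (b ≫ v) ≫ (u ≫ (𝟙 Y ^ c)) ≫ inc = (b ≫ inc) ^ (N * c) := by
  have h : (v ≫ u) ≫ (𝟙 Y ^ c) = 𝟙 Y ^ (N * c) := by
    rw [hvu, MonObj.comp_pow, Category.comp_id, ← pow_mul]
  simp only [Category.assoc] at h ⊢
  rw [← Category.assoc u, ← Category.assoc v, h, pow_comp', Category.id_comp, MonObj.comp_pow]

theorem comp_through' {X Y Q Z : Over (Spec (CommRingCat.of k))} [GrpObj Y] [GrpObj Q] [GrpObj Z] (b : Z ⟶ Q)
    (v : Y ⟶ X) (u : X ⟶ Y) (q : Y ⟶ Q) [IsMonHom q] (ν : Q ⟶ Y) (inc : Q ⟶ Z) [IsMonHom inc] {N c : ℕ}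
    (hvu : v ≫ u = 𝟙 Y ^ N) (hνq : ν ≫ q = 𝟙 Q ^ c) :
    (b ≫ ν ≫ v) ≫ (u ≫ q) ≫ inc = (b ≫ inc) ^ (N * c) := by
  have h : ν ≫ (v ≫ u) ≫ q = 𝟙 Q ^ (N * c) := by
    rw [hvu, pow_comp', Category.id_comp, MonObj.comp_pow, hνq, ← pow_mul, Nat.mul_comm]
  simp only [Category.assoc] at h ⊢
  rw [← Category.assoc u, ← Category.assoc v, ← Category.assoc ν]
  simp only [Category.assoc]
  rw [reassoc_of% h, pow_comp', Category.id_comp, MonObj.comp_pow]

variable {X : Over (Spec (CommRingCat.of k))} [GrpObj X] [IsCommMonObj X] [IsProper X.hom]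
  [GeometricallyIntegral X.hom]

/-- A quotient of `Y` making `Y` a retract of a variety with a bounded polarisation. -/
theorem exists_zarhin (Ω : Type u) [Field Ω] [Algebra k Ω] [IsAlgClosure k Ω] (l : ℕ) [Fact l.Prime]
    (hl : (l : k) ≠ 0) {L₀ : X.left.Modules} (hL₀ : CohB1.IsAmple L₀) {g : ℕ}
    (hg : topologicalKrullDim X.left = g) :
    ∃ C : ℕ, ∀ (Y : Over (Spec (CommRingCat.of k))) [GrpObj Y] [IsCommMonObj Y] [IsProper Y.hom]
      [GeometricallyIntegral Y.hom] (u : X ⟶ Y) [IsMonHom u] (v : Y ⟶ X) [IsMonHom v] (n : ℕ),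
      u ≫ v = 𝟙 X ^ (l ^ n) → v ≫ u = 𝟙 Y ^ (l ^ n) →
      ∃ (Z : Over (Spec (CommRingCat.of k))) (_ : GrpObj Z) (_ : IsCommMonObj Z) (_ : IsProper Z.hom)
        (_ : GeometricallyIntegral Z.hom) (L : Z.left.Modules),
        CohB1.IsAmple L ∧ topologicalKrullDim Z.left = ((8 * g : ℕ) : WithBot ℕ∞) ∧
          (@Curv2.euler k _ Z.left ⟨Z.hom⟩ L).natAbs ≤ C ∧
          ∃ (inc : Y ⟶ Z) (_ : IsMonHom inc) (prj : Z ⟶ Y) (_ : IsMonHom prj), inc ≫ prj = 𝟙 Y ∧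
            ∃ (a : Fin 4 ⊕ Fin 4 → (X ⟶ Z)) (b : Fin 4 ⊕ Fin 4 → (Z ⟶ X)) (m : ℕ),
              (∀ j, IsMonHom (a j)) ∧ (∀ j, IsMonHom (b j)) ∧ ∏ j, (b j ≫ a j) = 𝟙 Z ^ (l ^ m) := by
  haveI : IsAlgClosed Ω := IsAlgClosure.isAlgClosed k
  obtain ⟨hXp, hXg⟩ := q4_props (A := X) (B := X)
  haveI := hXp; haveI := hXg
  haveI : IsCommMonObj (Q4 (X ⊗ X)) := isCommMonObj_of_isProper_of_geometricallyIntegral _
  let cX := PicGrp.cls L₀ hL₀.1
  let i₀ : X ⟶ X := (𝟙 X)⁻¹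
  haveI : IsIso i₀.left := by
    have h : i₀ ≫ i₀ = 𝟙 X := by simp [i₀, GrpObj.comp_inv]
    haveI : IsIso i₀ := ⟨i₀, h, h⟩
    exact inferInstanceAs (IsIso ((Over.forget _).map i₀))
  have hd : IsAmpleCl (bl cX (𝟙 X) (𝟙 X)) := by
    rw [bl_self, pb_id]
    exact (show IsAmpleCl cX from ⟨L₀, hL₀, rfl⟩).mul ((show IsAmpleCl cX from ⟨L₀, hL₀, rfl⟩).pb i₀)
  obtain ⟨L00, hL00, h00⟩ := isAmpleCl_diag hd
  refine ⟨(@Curv2.euler k _ (Q4 (X ⊗ X)).left ⟨(Q4 (X ⊗ X)).hom⟩ L00).natAbs, ?_⟩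
  intro Y _ _ _ _ u _ v _ n huv hvu
  let N := l ^ n
  have hN : (N : k) ≠ 0 := by rw [Nat.cast_pow]; exact pow_ne_zero _ hl
  have hNN : ((N * N : ℕ) : k) ≠ 0 := by rw [Nat.cast_mul]; exact mul_ne_zero hN hN
  obtain ⟨Q, gQ, cQ, pQ, iQ, q, hq, ν, hν, hqν, hνq, hker, -⟩ := TateSub22.exists_quotient Ω (A := Y) hNN
    (kPts v cX Ω N) (fun y hy => pow_eq_one u v hvu cX Ω hy) (fun τ y hy => galAct_mem v cX Ω τ hy)
  haveI := hq; haveI := hν
  obtain ⟨hqf, hqe, hqs, -⟩ := isogeny_props q ν hNN hqν hνq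
  haveI := hqf; haveI := hqe; haveI := hqs
  obtain ⟨P, hP⟩ := exists_poincare Ω q (pb v cX) fun a ha => ((mem_kPts v cX Ω).1 ((hker a).1 ha)).2
  obtain ⟨M, hM⟩ := exists_four (N * N) (Nat.one_le_iff_ne_zero.2 fun h => hNN (by rw [h, Nat.cast_zero]))
  obtain ⟨h0p, h0g⟩ := q4_props (A := Y) (B := Y)
  haveI := h0p; haveI := h0g
  obtain ⟨hZp, hZg⟩ := q4_props (A := Y) (B := Q)
  haveI := hZp; haveI := hZg
  haveI : IsCommMonObj (Q4 (Y ⊗ Y)) := isCommMonObj_of_isProper_of_geometricallyIntegral _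
  haveI : IsCommMonObj (Q4 (Y ⊗ Q)) := isCommMonObj_of_isProper_of_geometricallyIntegral _
  have hdY : topologicalKrullDim Y.left = g := (dim_eq u v hN huv hvu).symm.trans hg
  have hdQ : topologicalKrullDim Q.left = g := (dim_eq q ν hNN hqν hνq).symm.trans hdY
  haveI := isMonHom_shear q M
  obtain ⟨hsf, hse, hss, -⟩ := isogeny_props (shear q M) (shear' ν M (N * N)) hNN (shear_comp q ν M _ hqν)
    (shear'_comp q ν M _ hνq)
  haveI := hsf; haveI := hse; haveI := hss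
  let V : Q4 (Y ⊗ Y) ⟶ Q4 (X ⊗ X) := mk (fun i => cx Y Y i ≫ v) fun i => cy Y Y i ≫ v
  let U : Q4 (X ⊗ X) ⟶ Q4 (Y ⊗ Y) := mk (fun i => cx X X i ≫ u) fun i => cy X X i ≫ u
  haveI : IsMonHom V := isMonHom_mk _ _ (fun i => inferInstance) fun i => inferInstance
  have hVU : V ≫ U = 𝟙 _ ^ N := by
    refine ext4 (fun i => ?_) fun i => ?_
    · rw [Category.assoc, mk_cx, ← Category.assoc, mk_cx, Category.assoc, hvu, MonObj.comp_pow, Category.comp_id,
        pow_comp', Category.id_comp]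
    · rw [Category.assoc, mk_cy, ← Category.assoc, mk_cy, Category.assoc, hvu, MonObj.comp_pow, Category.comp_id,
        pow_comp', Category.id_comp]
  have hUV : U ≫ V = 𝟙 _ ^ N := by
    refine ext4 (fun i => ?_) fun i => ?_
    · rw [Category.assoc, mk_cx, ← Category.assoc, mk_cx, Category.assoc, huv, MonObj.comp_pow, Category.comp_id,
        pow_comp', Category.id_comp]
    · rw [Category.assoc, mk_cy, ← Category.assoc, mk_cy, Category.assoc, huv, MonObj.comp_pow, Category.comp_id,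
        pow_comp', Category.id_comp]
  obtain ⟨hVf, hVe, hVs, -⟩ := isogeny_props V U hN hVU hUV
  haveI := hVf; haveI := hVe; haveI := hVs
  have hpull : pb (shear q M) (lz ν M (pb v cX) P) = pb V (PicGrp.cls L00 hL00.1) := by
    rw [pb_shear_lz q ν M (N * N) (pb v cX) P hqν hP hM, ← h00, map_mul, map_prod, map_prod]
    simp only [pb_bl, bl_hom, V, mk_cx, mk_cy, Category.comp_id]
  obtain ⟨LZ, hLZ, hLZc⟩ : IsAmpleCl (lz ν M (pb v cX) P) :=
    IsAmpleCl.of_pb (shear q M) (by rw [hpull]; exact (show IsAmpleCl _ from ⟨L00, hL00, rfl⟩).pb V)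
  refine ⟨Q4 (Y ⊗ Q), inferInstance, inferInstance, hZp, hZg, LZ, hLZ, dim_q4 hdY hdQ, ?_, ?_⟩
  · rw [hLZc, pb, pb, PicGrp.pullHom_cls, PicGrp.pullHom_cls, PicGrp.cls_eq_cls_iff] at hpull
    letI : (Q4 (Y ⊗ Y)).left.Over (Spec (CommRingCat.of k)) := ⟨(Q4 (Y ⊗ Y)).hom⟩
    have e1 := euler_pullback (shear q M) Ω (CubeField.isCoh_of_isInvertible hLZ.1)
    have e2 := euler_pullback V Ω (CubeField.isCoh_of_isInvertible hL00.1)
    have e : (Nat.card {x : SGA7.pt (K := k) Ω ⟶ _ // x ≫ shear q M = 1} : ℤ) *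
          @Curv2.euler k _ (Q4 (Y ⊗ Q)).left ⟨(Q4 (Y ⊗ Q)).hom⟩ LZ =
        (Nat.card {x : SGA7.pt (K := k) Ω ⟶ _ // x ≫ V = 1} : ℤ) *
          @Curv2.euler k _ (Q4 (X ⊗ X)).left ⟨(Q4 (X ⊗ X)).hom⟩ L00 :=
      e1.symm.trans ((CurveCoh17.euler_iso hpull.some).trans e2)
    set nh := Nat.card {x : SGA7.pt (K := k) Ω ⟶ Q4 (Y ⊗ Y) // x ≫ shear q M = 1}
    set nV := Nat.card {x : SGA7.pt (K := k) Ω ⟶ Q4 (Y ⊗ Y) // x ≫ V = 1}
    have hpos : 0 < nh := by
      haveI : Flat (shear q M).left := inferInstance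
      let y : (Q4 (Y ⊗ Q)).left := η[Q4 (Y ⊗ Q)].left (IsLocalRing.closedPoint k)
      obtain ⟨x, hx⟩ := (shear q M).left.surjective y
      have := finrank_eq_natCard (shear q M) Ω ((shear q M).left x)
      rw [show nh = _ from this.symm]
      exact Scheme.Hom.one_le_finrank_map (shear q M).left x
    haveI : Finite {x : SGA7.pt (K := k) Ω ⟶ Q4 (Y ⊗ Y) // x ≫ shear q M = 1} := Nat.finite_of_card_ne_zero hpos.ne'
    have hle : nV ≤ nh :=
      calc nV = (Nat.card (kerPts v Ω) ^ 2) ^ 4 := by rw [← pow_mul]; exact card_ker_diag Ω v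
        _ ≤ Nat.card (kPts v cX Ω N) ^ 4 := Nat.pow_le_pow_left (sq_card_le u v huv hvu cX Ω hN hg) 4
        _ ≤ nh := card_pow_le_ker_shear Ω q M (kPts v cX Ω N) fun y hy => (hker y).2 hy
    have h2 := congrArg Int.natAbs e
    rw [Int.natAbs_mul, Int.natAbs_mul, Int.natAbs_natCast, Int.natAbs_natCast] at h2
    exact Nat.le_of_mul_le_mul_left (h2.le.trans (Nat.mul_le_mul_right _ hle)) hpos
  refine ⟨inx 0, inferInstance, cx Y Q 0, inferInstance, by rw [inx, mk_cx, if_pos rfl], ?_⟩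
  haveI := TateTors22.isMonHom_pow (A := Y) (N * N)
  refine ⟨Sum.elim (fun i => (u ≫ (𝟙 Y ^ (N * N))) ≫ inx i) (fun i => (u ≫ q) ≫ iny i),
    Sum.elim (fun i => cx Y Q i ≫ v) (fun i => cy Y Q i ≫ ν ≫ v), 3 * n, ?_, ?_, ?_⟩
  · rintro (i | i) <;> dsimp only [Sum.elim_inl, Sum.elim_inr] <;> infer_instance
  · rintro (i | i) <;> dsimp only [Sum.elim_inl, Sum.elim_inr] <;> infer_instance
  have hm : l ^ (3 * n) = N * (N * N) := by simp only [N]; ring
  have e1 : ∀ i, (cx Y Q i ≫ v) ≫ (u ≫ (𝟙 Y ^ (N * N))) ≫ inx (B := Q) i = (cx Y Q i ≫ inx i) ^ (N * (N * N)) :=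
    fun i => comp_through (Z := Q4 (Y ⊗ Q)) (cx Y Q i) v u (inx i) (c := N * N) hvu
  have e2 : ∀ i, (cy Y Q i ≫ ν ≫ v) ≫ (u ≫ q) ≫ iny (A := Y) i = (cy Y Q i ≫ iny i) ^ (N * (N * N)) :=
    fun i => comp_through' (Z := Q4 (Y ⊗ Q)) (cy Y Q i) v u q ν (iny i) hvu hνq
  simp only [Fintype.prod_sum_type, Sum.elim_inl, Sum.elim_inr, e1, e2, hm]
  exact prod_coord _

end Groth.Agent.TateFin22

end
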